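import Cfsg.Agent.Lib.SylowMaxTwo.Tower
import Cfsg.Agent.Lib.Transfer.ConjFamily

/-!
# A simple group of length eight with a Sylow 2-subgroup of order `2 ^ 7`
-/

set_option autoImplicit false
set_option linter.style.haveILetI false
set_option linter.unusedSectionVars false

namespace Cfsg.Agent.SylowMaxTwo

open Subgroup
open scoped commutatorElement

variable {G : Type*} [Group G]

/-- The hypotheses on `G`. -/
structure Setup (S : Sylow 2 G) : Prop where
  noncomm : ∃ a b : G, a * b ≠ b * a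
  card : Nat.card (S : Subgroup G) = 2 ^ 7
  short : ∀ c : Fin 10 → Subgroup G, ¬ StrictAnti c

/-- The centre of `S`, as a subgroup of `G`. -/
def zc (S : Sylow 2 G) : Subgroup G := (S : Subgroup G) ⊓ centralizer ((S : Subgroup G) : Set G)

variable {S : Sylow 2 G}

theorem zc_le : zc S ≤ (S : Subgroup G) := inf_le_left

theorem zc_comm {z : G} (hz : z ∈ zc S) {s : G} (hs : s ∈ (S : Subgroup G)) : s * z = z * s :=
  mem_centralizer_iff.1 hz.2 s hs

variable [Finite G]

theorem Setup.height_le (h : Setup S) {H : Subgroup G} {k : ℕ} (hT : Tower H k) : k ≤ 8 :=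
  hT.le_of_short (m := 8) h.short

theorem Setup.ne_bot (h : Setup S) : (S : Subgroup G) ≠ ⊥ := fun e => by
  have := h.card
  rw [e, Subgroup.card_bot] at this
  norm_num at this

theorem exists_involution (h : Setup S) : ∃ z ∈ zc S, orderOf z = 2 := by
  haveI : Fact (Nat.Prime 2) := ⟨Nat.prime_two⟩
  haveI : Nontrivial (S : Subgroup G) := (nontrivial_iff_ne_bot _).2 h.ne_bot
  haveI : Nontrivial (center (S : Subgroup G)) := S.2.center_nontrivial
  obtain ⟨k, hk⟩ := IsPGroup.iff_card.1 (S.2.to_subgroup (center (S : Subgroup G)))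
  have hk0 : k ≠ 0 := by
    rintro rfl
    have := Finite.one_lt_card (α := center (S : Subgroup G))
    simp [hk] at this
  obtain ⟨c, hc⟩ := exists_prime_orderOf_dvd_card' 2
    (show 2 ∣ Nat.card (center (S : Subgroup G)) from hk ▸ dvd_pow_self 2 hk0)
  refine ⟨((c : (S : Subgroup G)) : G), ⟨c.1.2, ?_⟩, by rw [orderOf_coe, orderOf_coe, hc]⟩
  exact mem_centralizer_iff.2 fun s hs =>
    congrArg Subtype.val (mem_center_iff.1 c.2 ⟨s, hs⟩)

theorem zc_ne_bot (h : Setup S) : zc S ≠ ⊥ := by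
  obtain ⟨z, hz, hzo⟩ := exists_involution h
  intro e
  rw [e, mem_bot] at hz
  simp [hz] at hzo

variable [IsSimpleGroup G]

theorem Setup.ne_top (h : Setup S) : (S : Subgroup G) ≠ ⊤ := by
  intro e
  haveI : Fact (Nat.Prime 2) := ⟨Nat.prime_two⟩
  haveI : Nontrivial G := IsSimpleGroup.toNontrivial
  have hp : IsPGroup 2 G := by
    refine IsPGroup.of_card (n := 7) ?_
    rw [← h.card, e, Subgroup.card_top]
  have := hp.center_nontrivial
  rcases (inferInstance : (center G).Normal).eq_bot_or_eq_top with hb | ht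
  · exact (nontrivial_iff_ne_bot _).1 this hb
  · obtain ⟨a, b, hab⟩ := h.noncomm
    exact hab (mem_center_iff.1 (ht ▸ mem_top b) a)

theorem Setup.coatom (h : Setup S) {M : Subgroup G} (hM : (S : Subgroup G) < M) : M = ⊤ := by
  haveI : Fact (Nat.Prime 2) := ⟨Nat.prime_two⟩
  by_contra hne
  have := h.height_le (((tower_of_card 7 _ h.card).step hM).step (lt_top_iff_ne_top.2 hne))
  omega

theorem Setup.eq_of_le (h : Setup S) {M : Subgroup G} (hM : (S : Subgroup G) ≤ M) (hne : M ≠ ⊤) :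
    M = (S : Subgroup G) := by
  rcases hM.lt_or_eq with hlt | he
  · exact absurd (h.coatom hlt) hne
  · exact he.symm

theorem normalizer_ne_top {X : Subgroup G} (h1 : X ≠ ⊥) (h2 : X ≠ ⊤) :
    normalizer (X : Set G) ≠ ⊤ := fun e =>
  ((normalizer_eq_top_iff.1 e).eq_bot_or_eq_top).elim h1 h2

theorem Setup.normalizer_eq (h : Setup S) :
    normalizer ((S : Subgroup G) : Set G) = (S : Subgroup G) :=
  h.eq_of_le le_normalizer (normalizer_ne_top h.ne_bot h.ne_top)

theorem Setup.centralizer_eq (h : Setup S) {z : G} (hz : z ∈ zc S) (hz1 : z ≠ 1) :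
    centralizer ({z} : Set G) = (S : Subgroup G) := by
  refine h.eq_of_le (fun s hs => mem_centralizer_singleton_iff.2 (zc_comm hz hs)) fun e => hz1 ?_
  have hc : z ∈ center G := mem_center_iff.2 fun g =>
    mem_centralizer_singleton_iff.1 (e ▸ mem_top g)
  rcases (inferInstance : (center G).Normal).eq_bot_or_eq_top with hb | ht
  · rwa [hb, mem_bot] at hc
  · obtain ⟨a, b, hab⟩ := h.noncomm
    exact absurd (mem_center_iff.1 (ht ▸ mem_top b) a) hab

/-- Burnside: elements of the centre of `S` are conjugate only by elements of `S`. -/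
theorem Setup.mem_of_conj_mem (h : Setup S) {z g : G} (hz : z ∈ zc S) (hz1 : z ≠ 1)
    (hg : g * z * g⁻¹ ∈ zc S) : g ∈ (S : Subgroup G) := by
  haveI : Fact (Nat.Prime 2) := ⟨Nat.prime_two⟩
  obtain ⟨n, hn, he⟩ := Transfer.exists_normalizer_conj_eq_of_weaklyClosed S
    (Transfer.isWeaklyClosed_self (S : Subgroup G)) {z} g
    (Set.singleton_subset_iff.2 hz.2)
    (fun a ha => by rw [Set.mem_singleton_iff.1 ha]; exact hg.2)
  rw [h.normalizer_eq] at hn
  have e1 := he z rfl
  have e2 : n * z * n⁻¹ = z := by rw [zc_comm hz hn, mul_inv_cancel_right]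
  have : g ∈ centralizer ({z} : Set G) :=
    mem_centralizer_singleton_iff.2 (mul_inv_eq_iff_eq_mul.1 (e1.symm.trans e2))
  rwa [h.centralizer_eq hz hz1] at this

/-- If `M` contains the commutators of `S` and misses an element of `S`, some member of the
conjugation family has a fusion quotient outside `M`. -/
theorem exists_goldschmidt (h : Setup S) (M : Subgroup G)
    (hM : ¬ (S : Subgroup G) ≤ M) :
    ∃ D : Subgroup G, Transfer.IsGoldschmidt S D ∧ ∃ x ∈ normalizer (D : Set G), ∃ a ∈ D,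
      a⁻¹ * (x⁻¹ * a * x) ∉ M := by
  haveI : Fact (Nat.Prime 2) := ⟨Nat.prime_two⟩
  by_contra hh
  push Not at hh
  apply hM
  have hfoc : (S : Subgroup G).focalSubgroup ≤ M := by
    rw [Subgroup.focalSubgroup_def, closure_le]
    rintro _ ⟨hz, a, ha, u, rfl⟩
    have h2 : u * a⁻¹ * u⁻¹ ∈ (S : Subgroup G) := by
      simpa [commutatorElement_def, mul_assoc] using mul_mem (inv_mem ha) hz
    obtain ⟨c, hc, hch⟩ := Transfer.alperin_goldschmidt S {a⁻¹} u⁻¹
      (fun b hb => by rw [Set.mem_singleton_iff.1 hb]; exact inv_mem ha)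
      (fun b hb => by rw [Set.mem_singleton_iff.1 hb, inv_inv]; exact h2)
    have h3 := hch.quot_mem (T := M) (fun D hD x hx b hb => hh D hD x hx b hb) a⁻¹ rfl
    have hca : c * a⁻¹ = a⁻¹ * c := (mem_centralizer_iff.1 hc a⁻¹ rfl).symm
    have e : a⁻¹⁻¹ * ((c⁻¹ * u⁻¹)⁻¹ * a⁻¹ * (c⁻¹ * u⁻¹)) = ⁅a, u⁆ := by
      calc a⁻¹⁻¹ * ((c⁻¹ * u⁻¹)⁻¹ * a⁻¹ * (c⁻¹ * u⁻¹))
          = a * (u * (c * a⁻¹) * c⁻¹ * u⁻¹) := by group
        _ = ⁅a, u⁆ := by rw [hca, commutatorElement_def]; group
    rw [← e]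
    exact h3
  rw [← Subgroup.commutator_inf_eq_focalSubgroup] at hfoc
  rcases (inferInstance : (_root_.commutator G).Normal).eq_bot_or_eq_top with hb | ht
  · obtain ⟨a, b, hab⟩ := h.noncomm
    have := commutator_mem_commutator (mem_top a) (mem_top b)
    rw [← _root_.commutator_def, hb, mem_bot, commutatorElement_eq_one_iff_mul_comm] at this
    exact absurd this hab
  · rwa [ht, top_inf_eq] at hfoc

end Cfsg.Agent.SylowMaxTwo
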