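import Cfsg.Agent.Lib.Invol.NormalFour

/-!
# 2-groups with centre of order 2 in which no four-subgroup is normal
-/

set_option autoImplicit false
set_option linter.style.haveILetI false

namespace Cfsg.Agent.SylowMaxTwo

open Subgroup

variable {P : Type*} [Group P] [Finite P]

/-- A finite abelian subgroup with a unique involution is cyclic. -/
theorem isCyclic_of_unique (hP : IsPGroup 2 P) {A : Subgroup P} [IsMulCommutative A] {z : P}
    (hu : ∀ a ∈ A, a * a = 1 → a = 1 ∨ a = z) : IsCyclic A := by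
  classical
  haveI := Fintype.ofFinite A
  have key : ∀ j : ℕ, (Finset.univ.filter fun a : A => a ^ 2 ^ j = 1).card ≤ 2 ^ j := by
    intro j
    induction j with
    | zero => simp [Finset.filter_eq']
    | succ j ih =>
      refine le_trans (Finset.card_le_mul_card_image_of_maps_to (f := fun a => a ^ 2)
        (t := Finset.univ.filter fun a : A => a ^ 2 ^ j = 1) (fun a ha => ?_) 2 fun b hb => ?_) ?_
      · simp only [Finset.mem_filter, Finset.mem_univ, true_and] at ha ⊢
        rw [← pow_mul, ← pow_succ']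
        exact ha
      · by_cases hne : ∃ a₀ : A, a₀ ^ 2 = b
        · obtain ⟨a₀, ha₀⟩ := hne
          have hz : ∀ a : A, a ^ 2 = b → ((a * a₀⁻¹ : A) : P) = 1 ∨ ((a * a₀⁻¹ : A) : P) = z := by
            intro a ha
            refine hu _ (a * a₀⁻¹ : A).2 ?_
            have : (a * a₀⁻¹) ^ 2 = 1 := by
              rw [(show Commute a a₀⁻¹ from mul_comm' a a₀⁻¹).mul_pow, inv_pow, ha, ha₀,
                mul_inv_cancel]
            rw [pow_two] at this
            exact congrArg Subtype.val this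
          have : ((Finset.univ.filter fun a : A => a ^ 2 ^ (j + 1) = 1).filter
              fun a => a ^ 2 = b).image (fun a => ((a * a₀⁻¹ : A) : P)) ⊆ {1, z} := by
            intro y hy
            simp only [Finset.mem_image, Finset.mem_filter] at hy
            obtain ⟨a, ⟨-, ha⟩, rfl⟩ := hy
            simpa using hz a ha
          have h2 := (Finset.card_le_card this).trans Finset.card_le_two
          rwa [Finset.card_image_of_injective] at h2
          intro a a' haa
          exact mul_right_cancel (Subtype.ext haa : a * a₀⁻¹ = a' * a₀⁻¹)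
        · rw [Finset.card_eq_zero.2]
          · exact Nat.zero_le _
          · rw [Finset.filter_eq_empty_iff]
            exact fun a _ ha => hne ⟨a, ha⟩
      · rw [pow_succ']
        exact Nat.mul_le_mul_left 2 ih
  haveI : Fact (Nat.Prime 2) := ⟨Nat.prime_two⟩
  obtain ⟨k, hk⟩ := IsPGroup.iff_card.1 (hP.to_subgroup A)
  refine isCyclic_of_card_pow_eq_one_le fun m hm => ?_
  obtain ⟨i, -, hi⟩ := (Nat.dvd_prime_pow Nat.prime_two).1
    (show m.gcd (2 ^ k) ∣ 2 ^ k from Nat.gcd_dvd_right _ _)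
  refine le_trans (Finset.card_le_card (t := Finset.univ.filter fun a : A => a ^ 2 ^ i = 1) ?_)
    ((key i).trans (hi ▸ Nat.le_of_dvd hm (Nat.gcd_dvd_left _ _)))
  intro a ha
  simp only [Finset.mem_filter, Finset.mem_univ, true_and] at ha ⊢
  have h1 : a ^ m.gcd (2 ^ k) = 1 := by
    refine pow_gcd_eq_one.2 ⟨ha, ?_⟩
    rw [← hk]
    exact pow_card_eq_one'
  rwa [hi] at h1

/-- If the centre is `{1, z}` and every involution `n` with `[n, P] ≤ ⟨z⟩` is central, then `P`
is cyclic or has a cyclic subgroup of index two. -/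
theorem cyclic_index_two (hP : IsPGroup 2 P) {z : P} (hz : orderOf z = 2)
    (hzc : ∀ g : P, g * z = z * g) (hcen : ∀ c : P, (∀ g, g * c = c * g) → c = 1 ∨ c = z)
    (h : ∀ n : P, n * n = 1 → (∀ g, g * n * g⁻¹ = n ∨ g * n * g⁻¹ = z * n) → ∀ g, g * n = n * g) :
    ∃ A : Subgroup P, IsCyclic A ∧ z ∈ A ∧ ∀ g k : P, g ∉ A → k ∉ A → g * k ∈ A := by
  classical
  haveI : Fact (Nat.Prime 2) := ⟨Nat.prime_two⟩
  have hzz := Invol.mul_self_of_orderOf_two hz
  have hz1 := Invol.ne_one_of_orderOf_two hz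
  obtain ⟨A, hAn, hAc, hAmax⟩ := PGroup.exists_maximal_abelian_normal (G := P)
  have hcomm : ∀ x ∈ A, ∀ y ∈ A, Commute x y := fun x hx y hy =>
    congrArg Subtype.val (hAc.is_comm.comm ⟨x, hx⟩ ⟨y, hy⟩)
  have hCA := PGroup.centralizer_eq_of_maximal_abelian_normal hP hAc hAmax
  have hzA : z ∈ A := by
    rw [← hCA]
    exact mem_centralizer_iff.2 fun x _ => hzc x
  have hu : ∀ a ∈ A, a * a = 1 → a = 1 ∨ a = z := by
    by_contra hh
    push Not at hh
    obtain ⟨a, haA, haa, ha1, haz⟩ := hh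
    let Ω : Subgroup P :=
      { carrier := {x | x ∈ A ∧ x * x = 1}
        one_mem' := ⟨one_mem _, one_mul 1⟩
        mul_mem' := fun {x y} hx hy => ⟨mul_mem hx.1 hy.1, by
          rw [(hcomm y hy.1 x hx.1).mul_mul_mul_comm, hx.2, hy.2, one_mul]⟩
        inv_mem' := fun {x} hx => ⟨inv_mem hx.1, by rw [← mul_inv_rev, hx.2, inv_one]⟩ }
    haveI : Ω.Normal := ⟨fun x hx g => ⟨hAn.conj_mem x hx.1 g, by
      calc g * x * g⁻¹ * (g * x * g⁻¹) = g * (x * x) * g⁻¹ := by group
        _ = 1 := by rw [hx.2]; group⟩⟩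
    haveI : (zpowers z).Normal := ⟨fun x hx g => by
      obtain ⟨i, rfl⟩ := mem_zpowers_iff.1 hx
      rw [((show Commute g z from hzc g).zpow_right i).eq, mul_inv_cancel_right]
      exact zpow_mem (mem_zpowers z) i⟩
    have hzp : ∀ x ∈ zpowers z, x = 1 ∨ x = z := by
      intro x hx
      obtain ⟨i, rfl⟩ := mem_zpowers_iff.1 hx
      rcases Int.even_or_odd' i with ⟨l, rfl | rfl⟩
      · left; rw [zpow_mul, zpow_two, hzz, one_zpow]
      · right; rw [zpow_add, zpow_mul, zpow_two, hzz, one_zpow, one_mul, zpow_one]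
    have hlt : zpowers z < Ω := by
      refine lt_of_le_of_ne (zpowers_le.2 ⟨hzA, hzz⟩) fun e => ?_
      rcases hzp a (e.symm.le (show a ∈ Ω from ⟨haA, haa⟩)) with h' | h'
      · exact ha1 h'
      · exact haz h'
    obtain ⟨L, hLn, hzL, hLΩ, hLcard⟩ := PGroup.exists_normal_step hP (zpowers z) Ω hlt
    obtain ⟨n, hnL, hnz⟩ := SetLike.exists_of_lt hzL
    obtain ⟨hnA, hnn⟩ := hLΩ hnL
    have hcases : ∀ g, g * n * g⁻¹ = n ∨ g * n * g⁻¹ = z * n := by
      intro g
      have hsub : ({1, z, n, z * n} : Finset P) = (Set.toFinite (L : Set P)).toFinset := by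
        refine Finset.eq_of_subset_of_card_le ?_ ?_
        · intro y hy
          simp only [Finset.mem_insert, Finset.mem_singleton] at hy
          rw [Set.Finite.mem_toFinset]
          rcases hy with rfl | rfl | rfl | rfl
          · exact one_mem L
          · exact hzL.le (mem_zpowers _)
          · exact hnL
          · exact mul_mem (hzL.le (mem_zpowers _)) hnL
        · rw [← Set.ncard_eq_toFinset_card, ← Nat.card_coe_set_eq, SetLike.coe_sort_coe, hLcard,
            Nat.card_zpowers, hz, Finset.card_insert_of_notMem, Finset.card_insert_of_notMem,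
            Finset.card_pair]
          · exact fun e => hz1 (mul_eq_right.1 e.symm)
          · simp only [Finset.mem_insert, Finset.mem_singleton, not_or]
            refine ⟨fun e => hnz (e ▸ mem_zpowers z), fun e => hnz ?_⟩
            rw [show n = 1 from mul_eq_left.1 e.symm]
            exact one_mem _
          · simp only [Finset.mem_insert, Finset.mem_singleton, not_or]
            refine ⟨hz1.symm, fun e => hnz (e ▸ one_mem _), fun e => hnz ?_⟩
            rw [show n = z⁻¹ from eq_inv_of_mul_eq_one_right e.symm]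
            exact inv_mem (mem_zpowers z)
      have hc : g * n * g⁻¹ ∈ ({1, z, n, z * n} : Finset P) := by
        rw [hsub, Set.Finite.mem_toFinset]
        exact hLn.conj_mem n hnL g
      simp only [Finset.mem_insert, Finset.mem_singleton] at hc
      rcases hc with hc | hc | hc | hc
      · exact absurd (conj_eq_one_iff.1 hc ▸ one_mem _) hnz
      · refine absurd ?_ hnz
        rw [show n = z from mul_left_cancel ((mul_inv_eq_iff_eq_mul.1 hc).trans (hzc g).symm)]
        exact mem_zpowers z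
      · exact Or.inl hc
      · exact Or.inr hc
    rcases hcen n (h n hnn hcases) with h' | h'
    · exact hnz (h' ▸ one_mem _)
    · exact hnz (h' ▸ mem_zpowers z)
  haveI := hAc
  have hcyc : IsCyclic A := isCyclic_of_unique hP hu
  refine ⟨A, hcyc, hzA, fun g k hgA hkA => ?_⟩
  obtain ⟨⟨a, haA⟩, hagen⟩ := IsCyclic.exists_generator (α := A)
  have hgen : ∀ x ∈ A, x ∈ zpowers a := fun x hx => by
    obtain ⟨i, hi⟩ := mem_zpowers_iff.1 (hagen ⟨x, hx⟩)
    exact mem_zpowers_iff.2 ⟨i, congrArg Subtype.val hi⟩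
  have hcent : ∀ g, g * a * g⁻¹ = a → g ∈ A := by
    intro g hg
    rw [← hCA]
    refine mem_centralizer_iff.2 fun x hx => ?_
    obtain ⟨i, rfl⟩ := mem_zpowers_iff.1 (hgen x hx)
    exact (((show Commute g a from mul_inv_eq_iff_eq_mul.1 hg).zpow_right i).eq).symm
  have ha1 : a ≠ 1 := by
    rintro rfl
    exact hgA (hcent g (by group))
  have hodd : ∀ g : P, ∃ j : ℤ, g * a * g⁻¹ = a ^ (2 * j + 1) := by
    intro g
    obtain ⟨i, hi⟩ := mem_zpowers_iff.1 (hgen _ (hAn.conj_mem a haA g))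
    rcases Int.even_or_odd' i with ⟨j, rfl | rfl⟩
    · exfalso
      obtain ⟨l, hl⟩ := mem_zpowers_iff.1 (hgen _ (hAn.conj_mem a haA g⁻¹))
      apply ha1
      refine Invol.eq_one_of_odd_zpow hP (i := l * j - 1) ?_
      have : a = (a ^ (2 * j)) ^ l := by
        rw [hi, conj_zpow, hl]
        group
      rw [← zpow_mul] at this
      rw [show 2 * (l * j - 1) + 1 = 2 * j * l - 1 by ring, zpow_sub, ← this, zpow_one,
        mul_inv_cancel]
    · exact ⟨j, hi.symm⟩
  obtain ⟨iz, hiz⟩ := mem_zpowers_iff.1 (hgen z hzA)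
  -- the small case
  by_cases ha4 : a * a * (a * a) = 1
  · have hza : ∀ g, g ∉ A → g * a * g⁻¹ = z * a := by
      intro g hg
      have h3 : (g * a * g⁻¹) * (g * a * g⁻¹) = a * a := by
        obtain ⟨j, hj⟩ := hodd g
        rw [hj, ← zpow_add, show 2 * j + 1 + (2 * j + 1) = ((4 : ℕ) : ℤ) * j + 2 by push_cast; ring,
          zpow_add, zpow_mul, zpow_natCast, show a ^ 4 = a * a * (a * a) by
            rw [show (4 : ℕ) = 2 + 2 from rfl, pow_add, pow_two], ha4, one_zpow, one_mul, zpow_two]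
      have h4 : (g * a * g⁻¹ * a⁻¹) * (g * a * g⁻¹ * a⁻¹) = 1 := by
        rw [(hcomm a⁻¹ (inv_mem haA) _ (hAn.conj_mem a haA g)).mul_mul_mul_comm, h3]
        group
      rcases hu _ (mul_mem (hAn.conj_mem a haA g) (inv_mem haA)) h4 with h' | h'
      · exact absurd (hcent g (mul_inv_eq_one.1 h')) hg
      · exact mul_inv_eq_iff_eq_mul.1 h'
    refine hcent _ ?_
    calc g * k * a * (g * k)⁻¹ = g * (k * a * k⁻¹) * g⁻¹ := by group
      _ = g * (z * a) * g⁻¹ := by rw [hza k hkA]
      _ = z * (g * a * g⁻¹) := by rw [← mul_assoc g, hzc g]; group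
      _ = a := by rw [hza g hgA, ← mul_assoc, hzz, one_mul]
  by_contra hbad
  have hroot : ∀ x ∈ A, ∀ y ∈ A, x * x = y * y → x = y ∨ x = z * y := by
    intro x hx y hy hxy
    have h' : x * y⁻¹ * (x * y⁻¹) = 1 := by
      rw [(hcomm y⁻¹ (inv_mem hy) x hx).mul_mul_mul_comm, hxy]
      group
    rcases hu _ (mul_mem hx (inv_mem hy)) h' with h' | h'
    · exact Or.inl (mul_inv_eq_one.1 h')
    · exact Or.inr (mul_inv_eq_iff_eq_mul.1 h')
  -- an element acting as `a ↦ z a`
  suffices hv : ∃ v, v * a * v⁻¹ = z * a by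
    obtain ⟨v, hv⟩ := hv
    have hvv : v * v ∈ A := hcent _ (by
      calc v * v * a * (v * v)⁻¹ = v * (v * a * v⁻¹) * v⁻¹ := by group
        _ = v * (z * a) * v⁻¹ := by rw [hv]
        _ = z * (v * a * v⁻¹) := by rw [← mul_assoc v, hzc v]; group
        _ = a := by rw [hv, ← mul_assoc, hzz, one_mul])
    have hva : ∀ i : ℤ, v * a ^ i * v⁻¹ = z ^ i * a ^ i := fun i => by
      rw [← conj_zpow, hv, (hcomm z hzA a haA).mul_zpow]
    -- `z = a ^ (4 p)`
    obtain ⟨p, hp⟩ : ∃ p : ℤ, a ^ (4 * p) = z := by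
      rcases Int.even_or_odd' iz with ⟨q, rfl | rfl⟩
      · rcases Int.even_or_odd' q with ⟨p, rfl | rfl⟩
        · exact ⟨p, by rw [← hiz]; congr 1; ring⟩
        · exfalso
          apply ha4
          refine Invol.eq_one_of_odd_zpow hP (i := p) ?_
          rw [← hiz] at hzz
          rw [show a * a * (a * a) = a ^ (4 : ℤ) by
            rw [show (4 : ℤ) = 2 + 2 from rfl, zpow_add, zpow_two], ← zpow_mul, ← hzz, ← zpow_add]
          congr 1
          ring
      · exfalso
        apply ha4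
        have h2 : a * a = 1 := by
          refine Invol.eq_one_of_odd_zpow hP (i := q) ?_
          rw [← hiz] at hzz
          rw [show a * a = a ^ (2 : ℤ) from (zpow_two a).symm, ← zpow_mul, ← hzz, ← zpow_add]
          congr 1
          ring
        rw [h2, one_mul]
    obtain ⟨i, hi⟩ := mem_zpowers_iff.1 (hgen _ hvv)
    obtain ⟨l, rfl⟩ : (2 : ℤ) ∣ i := by
      rcases Int.even_or_odd' i with ⟨l, rfl | rfl⟩
      · exact ⟨l, rfl⟩
      · exfalso
        apply hz1
        have h' := hva (2 * l + 1)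
        rw [hi, zpow_add, zpow_mul, zpow_two, hzz, one_zpow, one_mul, zpow_one] at h'
        rw [show v * (v * v) * v⁻¹ = v * v by group] at h'
        exact mul_eq_right.1 h'.symm
    obtain ⟨k, hk⟩ : ∃ k : ℤ, z ^ k * (a ^ (2 * l) * a ^ (2 * k)) = 1 := by
      rcases Int.even_or_odd' l with ⟨m, rfl | rfl⟩
      · refine ⟨-(2 * m), ?_⟩
        rw [← zpow_add, show 2 * (2 * m) + 2 * -(2 * m) = 0 by ring, zpow_zero, mul_one,
          show -(2 * m) = 2 * -m by ring, zpow_mul, zpow_two, hzz, one_zpow]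
      · refine ⟨2 * p - (2 * m + 1), ?_⟩
        rw [← zpow_add, show 2 * (2 * m + 1) + 2 * (2 * p - (2 * m + 1)) = 4 * p by ring, hp,
          show 2 * p - (2 * m + 1) = 2 * (p - m - 1) + 1 by ring, zpow_add, zpow_mul, zpow_two,
          hzz, one_zpow, one_mul, zpow_one, hzz]
    set e := v * a ^ k with he
    have hea : e * a * e⁻¹ = z * a := by rw [he, ← hv]; group
    have hee : e * e = 1 := by
      have h' : a ^ k * v = z ^ k * (v * a ^ k) := by
        have hkv := hva k
        rw [mul_inv_eq_iff_eq_mul] at hkv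
        calc a ^ k * v = z ^ k * ((z ^ k * a ^ k) * v) := by
              rw [← mul_assoc, ← mul_assoc, ← zpow_add, ← two_mul, zpow_mul, zpow_two, hzz,
                one_zpow, one_mul]
          _ = z ^ k * (v * a ^ k) := by rw [← hkv]
      calc e * e = v * (a ^ k * v) * a ^ k := by rw [he]; group
        _ = (v * z ^ k) * (v * a ^ k * a ^ k) := by rw [h']; group
        _ = z ^ k * ((v * v) * a ^ (2 * k)) := by
            rw [((show Commute v z from hzc v).zpow_right k).eq]; group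
        _ = 1 := by rw [← hi, hk]
    clear_value e
    have hall : ∀ g, g * e * g⁻¹ = e ∨ g * e * g⁻¹ = z * e := by
      intro g
      set f := g * e * g⁻¹ with hfdef
      have hfa : f * a * f⁻¹ = z * a := by
        obtain ⟨j, hj⟩ := hodd g⁻¹
        rw [inv_inv] at hj
        calc f * a * f⁻¹ = g * (e * (g⁻¹ * a * g) * e⁻¹) * g⁻¹ := by rw [hfdef]; group
          _ = g * (z * a) ^ (2 * j + 1) * g⁻¹ := by rw [hj, ← conj_zpow, hea]
          _ = g * (z * (g⁻¹ * a * g)) * g⁻¹ := by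
              rw [(hcomm z hzA a haA).mul_zpow, hj, zpow_add, zpow_mul, zpow_two, hzz, one_zpow,
                one_mul, zpow_one]
          _ = z * a := by rw [← mul_assoc g z, hzc g]; group
      have hcA : f * e ∈ A := hcent _ (by
        calc f * e * a * (f * e)⁻¹ = f * (e * a * e⁻¹) * f⁻¹ := by group
          _ = z * (f * a * f⁻¹) := by rw [hea, ← mul_assoc f z, hzc f]; group
          _ = a := by rw [hfa, ← mul_assoc, hzz, one_mul])
      obtain ⟨i, hi⟩ := mem_zpowers_iff.1 (hgen _ hcA)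
      have hff : f * f = 1 := by
        calc f * f = g * (e * e) * g⁻¹ := by rw [hfdef]; group
          _ = 1 := by rw [hee]; group
      have hece : e * a ^ i * e⁻¹ = (a ^ i)⁻¹ := by
        rw [hi, mul_inv_rev, inv_eq_of_mul_eq_one_right hff, inv_eq_of_mul_eq_one_right hee,
          mul_assoc, mul_assoc, hee, mul_one]
      rw [← conj_zpow, hea, (hcomm z hzA a haA).mul_zpow, eq_inv_iff_mul_eq_one] at hece
      have hi2 : f * e * (f * e) = 1 := by
        rw [← hi]
        rcases Int.even_or_odd' i with ⟨l, rfl | rfl⟩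
        · rwa [zpow_mul, zpow_two, hzz, one_zpow, one_mul] at hece
        · exfalso
          rw [zpow_add z, zpow_mul, zpow_two, hzz, one_zpow, one_mul, zpow_one, mul_assoc] at hece
          have h3 : a ^ (2 * l + 1) * a ^ (2 * l + 1) = z := by
            rw [← inv_eq_of_mul_eq_one_right hece, Invol.inv_of_orderOf_two hz]
          apply ha4
          refine Invol.eq_one_of_odd_zpow hP (i := l) ?_
          rw [← h3] at hzz
          rw [← hzz, Commute.mul_zpow (Commute.refl _), Commute.mul_zpow (Commute.refl _)]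
      rcases hu _ hcA hi2 with h' | h'
      · left
        rw [eq_inv_of_mul_eq_one_left h', inv_eq_of_mul_eq_one_right hee]
      · right
        calc f = f * e * e := by rw [mul_assoc, hee, mul_one]
          _ = z * e := by rw [h']
    have hcomm' := h e hee hall a
    rw [← hcomm', mul_inv_cancel_right] at hea
    exact hz1 (right_eq_mul.1 hea)
  -- outside `A`, elements squaring into `A` act as `a ↦ z a`, `a⁻¹` or `z a⁻¹`
  have hclass : ∀ g, g ∉ A → g * g ∈ A →
      g * a * g⁻¹ = z * a ∨ g * a * g⁻¹ = a⁻¹ ∨ g * a * g⁻¹ = z * a⁻¹ := by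
    intro g hg hgg
    obtain ⟨j, hj⟩ := hodd g
    have h1 : a ^ ((2 * j + 1) * (2 * j + 1)) = a := by
      rw [zpow_mul, ← hj, conj_zpow, ← hj]
      calc g * (g * a * g⁻¹) * g⁻¹ = (g * g) * a * (g * g)⁻¹ := by group
        _ = a := by rw [(hcomm _ hgg a haA).eq, mul_inv_cancel_right]
    have h2 : a ^ (4 * j * (j + 1)) = 1 := by
      rw [show 4 * j * (j + 1) = (2 * j + 1) * (2 * j + 1) - 1 by ring, zpow_sub, h1, zpow_one,
        mul_inv_cancel]
    rcases Int.even_or_odd' j with ⟨l, rfl | rfl⟩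
    · have h3 : a ^ (8 * l) = 1 := Invol.eq_one_of_odd_zpow hP (i := l) (by
        rw [← zpow_mul, show 8 * l * (2 * l + 1) = 4 * (2 * l) * (2 * l + 1) by ring, h2])
      have h4 : (g * a * g⁻¹) * (g * a * g⁻¹) = a * a := by
        rw [hj, ← zpow_add, show 2 * (2 * l) + 1 + (2 * (2 * l) + 1) = 8 * l + 2 by ring,
          zpow_add, h3, one_mul, zpow_two]
      rcases hroot _ (hAn.conj_mem a haA g) a haA h4 with h' | h'
      · exact absurd (hcent g h') hg
      · exact Or.inl h'
    · have h3 : a ^ (8 * (l + 1)) = 1 := Invol.eq_one_of_odd_zpow hP (i := l) (by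
        rw [← zpow_mul, show 8 * (l + 1) * (2 * l + 1) = 4 * (2 * l + 1) * (2 * l + 1 + 1) by ring,
          h2])
      have h4 : (g * a * g⁻¹) * (g * a * g⁻¹) = a⁻¹ * a⁻¹ := by
        rw [hj, ← zpow_add, show 2 * (2 * l + 1) + 1 + (2 * (2 * l + 1) + 1) = 8 * (l + 1) + -2
          by ring, zpow_add, h3, one_mul, zpow_neg, zpow_two, mul_inv_rev]
      exact Or.inr (hroot _ (hAn.conj_mem a haA g) _ (inv_mem haA) h4)
  have hpow : ∀ y : P, ∃ m : ℕ, y ^ 2 ^ m ∈ A := fun y => by
    obtain ⟨m, hm⟩ := hP y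
    exact ⟨m, hm ▸ one_mem A⟩
  obtain ⟨g0, hg0, hg00⟩ : ∃ g0, g0 ∉ A ∧ g0 * g0 ∈ A := by
    have hm := Nat.find_spec (hpow g)
    obtain ⟨m, hm'⟩ : ∃ m, Nat.find (hpow g) = m + 1 := by
      refine Nat.exists_eq_succ_of_ne_zero fun e => hgA ?_
      rw [e] at hm
      simpa using hm
    refine ⟨g ^ 2 ^ m, Nat.find_min (hpow g) (by omega), ?_⟩
    rw [← pow_two, ← pow_mul, ← pow_succ, ← hm']
    exact hm
  rcases hclass g0 hg0 hg00 with h0 | h0
  · exact ⟨g0, h0⟩
  have hP2 : ∀ y : P, ∃ m : ℕ, y ^ 2 ^ m ∈ A ∨ g0⁻¹ * y ^ 2 ^ m ∈ A :=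
    fun y => (hpow y).imp fun m hm => Or.inl hm
  obtain ⟨h0', hh1, hh2, hh3⟩ : ∃ y, y ∉ A ∧ g0⁻¹ * y ∉ A ∧
      (y * y ∈ A ∨ g0⁻¹ * (y * y) ∈ A) := by
    obtain ⟨y, hy1, hy2⟩ : ∃ y, y ∉ A ∧ g0⁻¹ * y ∉ A := by
      by_contra hh
      push Not at hh
      have key : ∀ y, y ∉ A → ∃ c ∈ A, y = g0 * c := fun y hy =>
        ⟨_, hh y hy, by group⟩
      obtain ⟨c, hc, rfl⟩ := key g hgA
      obtain ⟨c', hc', rfl⟩ := key k hkA
      apply hbad
      rw [show g0 * c * (g0 * c') = (g0 * c * g0⁻¹) * (g0 * g0) * c' by group]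
      exact mul_mem (mul_mem (hAn.conj_mem c hc g0) hg00) hc'
    have hm := Nat.find_spec (hP2 y)
    obtain ⟨m, hm'⟩ : ∃ m, Nat.find (hP2 y) = m + 1 := by
      refine Nat.exists_eq_succ_of_ne_zero fun e => ?_
      rw [e] at hm
      simp only [pow_zero, pow_one] at hm
      exact hm.elim hy1 hy2
    have hmin := Nat.find_min (hP2 y) (show m < Nat.find (hP2 y) by omega)
    push Not at hmin
    refine ⟨y ^ 2 ^ m, hmin.1, hmin.2, ?_⟩
    rw [← pow_two, ← pow_mul, ← pow_succ, ← hm']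
    exact hm
  rcases hh3 with hsq | hsq
  · rcases hclass h0' hh1 hsq with h' | h'
    · exact ⟨h0', h'⟩
    have hne : h0' * a * h0'⁻¹ ≠ g0 * a * g0⁻¹ := fun e => hh2 (hcent _ (by
      calc g0⁻¹ * h0' * a * (g0⁻¹ * h0')⁻¹ = g0⁻¹ * (h0' * a * h0'⁻¹) * g0 := by group
        _ = a := by rw [e]; group))
    refine ⟨h0' * g0, ?_⟩
    have hc : z * a⁻¹⁻¹ = z * a := by rw [inv_inv]
    have key : h0' * g0 * a * (h0' * g0)⁻¹ = h0' * (g0 * a * g0⁻¹) * h0'⁻¹ := by group
    rw [key]
    rcases h0 with h0 | h0 <;> rcases h' with h' | h'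
    · exact absurd (h'.trans h0.symm) hne
    · rw [h0, show h0' * a⁻¹ * h0'⁻¹ = (h0' * a * h0'⁻¹)⁻¹ by group, h', mul_inv_rev, inv_inv,
        Invol.inv_of_orderOf_two hz, hzc a]
    · rw [h0, ← mul_assoc h0', hzc h0',
        show z * h0' * a⁻¹ * h0'⁻¹ = z * (h0' * a * h0'⁻¹)⁻¹ by group, h', inv_inv]
    · exact absurd (h'.trans h0.symm) hne
  · refine absurd ?_ ha4
    obtain ⟨j, hj⟩ := hodd h0'
    have h1 : a ^ ((2 * j + 1) * (2 * j + 1)) = g0 * a * g0⁻¹ := by
      rw [zpow_mul, ← hj, conj_zpow, ← hj]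
      calc h0' * (h0' * a * h0'⁻¹) * h0'⁻¹
          = g0 * ((g0⁻¹ * (h0' * h0')) * a * (g0⁻¹ * (h0' * h0'))⁻¹) * g0⁻¹ := by group
        _ = g0 * a * g0⁻¹ := by rw [(hcomm _ hsq a haA).eq, mul_inv_cancel_right]
    have h2 : a ^ ((2 * j + 1) * (2 * j + 1)) * a * (a ^ ((2 * j + 1) * (2 * j + 1)) * a) = 1 := by
      rw [h1]
      rcases h0 with h0 | h0 <;> rw [h0]
      · group
      · rw [mul_assoc z a⁻¹ a, inv_mul_cancel, mul_one, hzz]
    obtain ⟨r, hr⟩ : ∃ r : ℤ, (2 * j + 1) * (2 * j + 1) = 4 * r + 1 := ⟨j * j + j, by ring⟩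
    refine Invol.eq_one_of_odd_zpow hP (i := r) ?_
    rw [hr] at h2
    rw [← h2, show a * a * (a * a) = a ^ (4 : ℤ) by
      rw [show (4 : ℤ) = 2 + 2 from rfl, zpow_add, zpow_two], ← zpow_mul, ← zpow_add_one,
      ← zpow_add]
    congr 1
    ring

end Cfsg.Agent.SylowMaxTwo
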