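import Cfsg.Agent.Lib.SylowMaxTwo.PartC
import Cfsg.Agent.Lib.SylowMaxTwo.NoFour
import Cfsg.Agent.Lib.CIT.Defs
import Cfsg.Agent.Lib.Transfer.Thompson

/-!
# The group is a CIT group
-/

set_option autoImplicit false
set_option linter.style.haveILetI false
set_option linter.unusedSectionVars false

namespace Cfsg.Agent.SylowMaxTwo

open Subgroup

variable {G : Type*} [Group G] [Finite G] [IsSimpleGroup G] {S : Sylow 2 G}

theorem Setup.exists_noncomm (h : Setup S) :
    ∃ a ∈ (S : Subgroup G), ∃ b ∈ (S : Subgroup G), a * b ≠ b * a := by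
  haveI : Fact (Nat.Prime 2) := ⟨Nat.prime_two⟩
  by_contra hh
  push Not at hh
  have hNC : normalizer ((S : Subgroup G) : Set G) ≤ centralizer ((S : Subgroup G) : Set G) := by
    rw [h.normalizer_eq]
    exact fun a ha => mem_centralizer_iff.2 fun b hb => hh b hb a ha
  have hc := MonoidHom.ker_transferSylow_isComplement' S hNC
  rcases (inferInstance : (MonoidHom.transferSylow S hNC).ker.Normal).eq_bot_or_eq_top with e | e
  · rw [e, isComplement'_bot_left] at hc
    exact h.ne_top hc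
  · rw [e, isComplement'_top_left] at hc
    exact h.ne_bot hc

theorem Setup.not_many_central (h : Setup S) {a b : G} (ha : a ∈ zc S) (hb : b ∈ zc S)
    (ha1 : a ≠ 1) (hb1 : b ≠ 1) : a = b := by
  haveI : Fact (Nat.Prime 2) := ⟨Nat.prime_two⟩
  by_contra hab
  obtain ⟨p, hp, q, hq, hpq⟩ := h.exists_noncomm
  set P := (S : Subgroup G)
  haveI hnt : Nontrivial (P ⧸ center P) := by
    rw [QuotientGroup.nontrivial_iff]
    intro e
    have h1 : (⟨p, hp⟩ : P) ∈ center P := e ▸ mem_top _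
    exact hpq (congrArg Subtype.val (mem_center_iff.1 h1 ⟨q, hq⟩)).symm
  have hQ : IsPGroup 2 (P ⧸ center P) := S.2.to_quotient _
  haveI := hQ.center_nontrivial
  obtain ⟨k, hk⟩ := IsPGroup.iff_card.1 (hQ.to_subgroup (center (P ⧸ center P)))
  have hk0 : k ≠ 0 := by
    rintro rfl
    have := Finite.one_lt_card (α := center (P ⧸ center P))
    simp [hk] at this
  obtain ⟨c, hc⟩ := exists_prime_orderOf_dvd_card' 2
    (show 2 ∣ Nat.card (center (P ⧸ center P)) from hk ▸ dvd_pow_self 2 hk0)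
  obtain ⟨⟨n, hn⟩, hnc⟩ := QuotientGroup.mk'_surjective (center P) (c : P ⧸ center P)
  have hzc : ∀ v : P, v ∈ center P → (v : G) ∈ zc S := fun v hv =>
    ⟨v.2, mem_centralizer_iff.2 fun s hs => congrArg Subtype.val (mem_center_iff.1 hv ⟨s, hs⟩)⟩
  refine (Near.false h (n := n) ⟨hn, ?_, ?_, ?_, fun hone => absurd (hone a ha b hb ha1 hb1) hab⟩)
  · intro hnz
    have : (c : P ⧸ center P) = 1 := by
      rw [← hnc]
      exact (QuotientGroup.eq_one_iff _).2
        (mem_center_iff.2 fun g => Subtype.ext (zc_comm hnz g.2))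
    rw [← orderOf_coe, this, orderOf_one] at hc
    omega
  · intro s hs
    refine hzc (⟨n, hn⟩ * ⟨s, hs⟩ * (⟨n, hn⟩ : P)⁻¹ * (⟨s, hs⟩ : P)⁻¹)
      ((QuotientGroup.eq_one_iff _).1 ?_)
    show QuotientGroup.mk' (center P) _ = 1
    rw [map_mul, map_mul, map_mul, map_inv, map_inv, hnc]
    rw [← mem_center_iff.1 c.2 (QuotientGroup.mk' (center P) ⟨s, hs⟩)]
    group
  · refine hzc (⟨n, hn⟩ * ⟨n, hn⟩) ((QuotientGroup.eq_one_iff _).1 ?_)
    show QuotientGroup.mk' (center P) _ = 1
    have h2 : (c : P ⧸ center P) ^ 2 = 1 := by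
      rw [← hc, ← orderOf_coe, pow_orderOf_eq_one]
    rw [map_mul, hnc, ← pow_two, h2]

theorem Setup.isCIT (h : Setup S) : CIT.IsCIT G := by
  classical
  haveI : Fact (Nat.Prime 2) := ⟨Nat.prime_two⟩
  obtain ⟨z, hz, hzo⟩ := exists_involution h
  have hz1 : z ≠ 1 := fun e => by simp [e] at hzo
  set P := (S : Subgroup G)
  set zP : P := ⟨z, zc_le hz⟩ with hzP
  obtain ⟨A, hAc, hzA, hA2⟩ := cyclic_index_two (P := P) S.2 (z := zP)
    (by rw [hzP, orderOf_mk, hzo]) (fun g => Subtype.ext (zc_comm hz g.2))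
    (fun c hc => by
      by_cases hc1 : (c : G) = 1
      · exact Or.inl (Subtype.ext hc1)
      · refine Or.inr (Subtype.ext (h.not_many_central ⟨c.2, mem_centralizer_iff.2 fun s hs =>
          congrArg Subtype.val (hc ⟨s, hs⟩)⟩ hz hc1 hz1)))
    (fun n hnn hcases g => by
      by_contra hne
      have hzz : z * z = 1 := by rw [← pow_two, ← hzo, pow_orderOf_eq_one]
      have hnn' : (n : G) * n = 1 := congrArg Subtype.val hnn
      refine Near.false h (n := (n : G)) ⟨n.2, fun hnz => hne (Subtype.ext (zc_comm hnz g.2)), ?_,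
        ?_, fun _ => hnn'⟩
      · intro s hs
        have e : (n : G) * s * (n : G)⁻¹ * s⁻¹ = n * (s * n * s⁻¹)⁻¹ := by group
        rw [e]
        rcases hcases ⟨s, hs⟩ with h1 | h1
        · rw [show s * (n : G) * s⁻¹ = n from congrArg Subtype.val h1, mul_inv_cancel]
          exact one_mem _
        · rw [show s * (n : G) * s⁻¹ = z * n from congrArg Subtype.val h1, mul_inv_rev,
            mul_inv_cancel_left]
          exact inv_mem hz
      · rw [hnn']
        exact one_mem _)
  obtain ⟨p, hp, q, hq, hpq⟩ := h.exists_noncomm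
  have hAtop : A ≠ ⊤ := fun e => hpq <| by
    obtain ⟨w, hw⟩ := hAc.exists_generator
    obtain ⟨i, hi⟩ := mem_zpowers_iff.1 (hw ⟨⟨p, hp⟩, e ▸ mem_top _⟩)
    obtain ⟨j, hj⟩ := mem_zpowers_iff.1 (hw ⟨⟨q, hq⟩, e ▸ mem_top _⟩)
    have hc : (⟨⟨p, hp⟩, e ▸ mem_top _⟩ : A) * ⟨⟨q, hq⟩, e ▸ mem_top _⟩ =
        (⟨⟨q, hq⟩, e ▸ mem_top _⟩ : A) * ⟨⟨p, hp⟩, e ▸ mem_top _⟩ := by
      rw [← hi, ← hj, zpow_mul_comm]
    exact congrArg (fun a : A => ((a : P) : G)) hc
  obtain ⟨v, hv⟩ : ∃ v, v ∉ A := by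
    by_contra hh
    push Not at hh
    exact hAtop (eq_top_iff.2 fun x _ => hh x)
  have hidx : A.index = 2 := by
    refine index_eq_two_iff.2 ⟨v, fun b => ?_⟩
    by_cases hb : b ∈ A
    · exact Or.inr ⟨hb, fun hh => hv (by simpa using mul_mem (inv_mem hb) hh)⟩
    · exact Or.inl ⟨hA2 b v hb hv, hb⟩
  set Q := A.map P.subtype with hQ
  have hQP : Q ≤ P := map_subtype_le _
  have hQi : Q.relIndex P = 2 := by
    rw [relIndex, subgroupOf, hQ, comap_map_eq_self_of_injective P.subtype_injective, hidx]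
  have hres : Cfsg.pResidual 2 G = ⊤ := by
    by_contra hne
    have hn : (Cfsg.pResidual 2 G).Normal := by
      constructor
      intro x hx g
      have : (Cfsg.pResidual 2 G).map (MulAut.conj g).toMonoidHom ≤ Cfsg.pResidual 2 G := by
        rw [Cfsg.pResidual, MonoidHom.map_closure]
        refine closure_mono ?_
        rintro _ ⟨y, hy, rfl⟩
        simpa [MulAut.conj_apply, Invol.orderOf_conj_eq] using hy
      simpa using this (mem_map_of_mem _ hx)
    have hb := hn.eq_bot_or_eq_top.resolve_right hne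
    apply h.ne_top
    refine (S.is_maximal' (IsPGroup.iff_orderOf.2 fun g' : (⊤ : Subgroup G) => ?_) le_top).symm
    obtain ⟨g, hg'⟩ := g'
    rw [orderOf_mk]
    suffices hh : ∀ g : G, ∃ k, orderOf g = 2 ^ k from hh g
    intro g
    obtain ⟨i, r, hr, he⟩ := Nat.exists_eq_two_pow_mul_odd (orderOf_pos g).ne'
    have hg : g ^ 2 ^ i ∈ Cfsg.pResidual 2 G := by
      refine subset_closure ?_
      show Nat.Coprime (orderOf (g ^ 2 ^ i)) 2
      refine Nat.coprime_two_right.2 (hr.of_dvd_nat (orderOf_dvd_of_pow_eq_one ?_))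
      rw [← pow_mul, ← he, pow_orderOf_eq_one]
    rw [hb, mem_bot] at hg
    obtain ⟨l, -, hl⟩ := (Nat.dvd_prime_pow Nat.prime_two).1 (orderOf_dvd_of_pow_eq_one hg)
    exact ⟨l, hl⟩
  have hu : ∀ a : P, a ∈ A → a * a = 1 → a = 1 ∨ a = zP := by
    intro a ha haa
    by_contra hh
    push Not at hh
    haveI := Fintype.ofFinite A
    have hcard := IsCyclic.card_pow_eq_one_le (α := A) (n := 2) two_pos
    have hzz : zP * zP = 1 := Subtype.ext (by
      show z * z = 1
      rw [← pow_two, ← hzo, pow_orderOf_eq_one])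
    have hsub : ({1, ⟨zP, hzA⟩, ⟨a, ha⟩} : Finset A) ⊆ Finset.univ.filter fun x : A => x ^ 2 = 1 := by
      intro x hx
      simp only [Finset.mem_insert, Finset.mem_singleton] at hx
      simp only [Finset.mem_filter, Finset.mem_univ, true_and, pow_two]
      rcases hx with rfl | rfl | rfl
      · exact one_mul 1
      · exact Subtype.ext hzz
      · exact Subtype.ext haa
    have h3 := (Finset.card_le_card hsub).trans hcard
    rw [Finset.card_insert_of_notMem, Finset.card_pair] at h3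
    · omega
    · exact fun e => hh.2 (congrArg Subtype.val e).symm
    · simp only [Finset.mem_insert, Finset.mem_singleton, not_or]
      exact ⟨fun e => hz1 (congrArg (fun y : A => ((y : P) : G)) e).symm,
        fun e => hh.1 (congrArg Subtype.val e).symm⟩
  intro t ht
  obtain ⟨R, hR⟩ := (IsPGroup.of_card (p := 2) (n := 1)
    (by rw [Nat.card_zpowers, ht, pow_one]) : IsPGroup 2 (zpowers t)).exists_le_sylow
  obtain ⟨g, hg⟩ := MulAction.exists_smul_eq G R S
  have htS : g * t * g⁻¹ ∈ P := by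
    have h0 : g * t * g⁻¹ ∈ ((g • R : Sylow 2 G) : Subgroup G) := ⟨t, hR (mem_zpowers t), rfl⟩
    rw [hg] at h0
    exact h0
  obtain ⟨g', hg'⟩ := Transfer.exists_conj_mem_of_pResidual_eq_top S Q hQP hQi hres _
    (by rw [conj_pow, ← ht, pow_orderOf_eq_one]; group) htS
  obtain ⟨a, ha, hae⟩ := hg'
  set y := g' * g with hy
  have hyt : (a : G) = y * t * y⁻¹ := by
    rw [show (a : G) = g' * (g * t * g⁻¹) * g'⁻¹ from hae, hy]; group
  have haz : (a : G) = z := by
    rcases hu a ha (Subtype.ext (by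
      show (a : G) * a = 1
      calc (a : G) * a = y * t ^ 2 * y⁻¹ := by rw [hyt, pow_two]; group
        _ = 1 := by rw [← ht, pow_orderOf_eq_one]; group)) with e | e
    · exfalso
      have : y * t * y⁻¹ = 1 := by rw [← hyt, e]; rfl
      rw [conj_eq_one_iff] at this
      simp [this] at ht
    · rw [e, hzP]
  have hle : (centralizer ({t} : Set G)).map (MulAut.conj y).toMonoidHom ≤ P := by
    show _ ≤ (S : Subgroup G)
    rw [← h.centralizer_eq hz hz1]
    rintro _ ⟨u, hu', rfl⟩
    refine mem_centralizer_singleton_iff.2 ?_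
    rw [← haz, hyt]
    have hut := mem_centralizer_singleton_iff.1 hu'
    simp only [MulEquiv.coe_toMonoidHom, MulAut.conj_apply]
    calc y * u * y⁻¹ * (y * t * y⁻¹) = y * (u * t) * y⁻¹ := by group
      _ = y * (t * u) * y⁻¹ := by rw [hut]
      _ = y * t * y⁻¹ * (y * u * y⁻¹) := by group
  exact (S.2.to_le hle).of_equiv
    ((centralizer ({t} : Set G)).equivMapOfInjective _ (MulAut.conj y).injective).symm

end Cfsg.Agent.SylowMaxTwo
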