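import Cfsg.Agent.Lib.SylowMaxTwo.Base

/-!
# The local subgroup attached to an element `n` central modulo the centre of `S`
-/

set_option autoImplicit false
set_option linter.style.haveILetI false
set_option linter.unusedSectionVars false

namespace Cfsg.Agent.SylowMaxTwo

open Subgroup

variable {G : Type*} [Group G]

/-- `n` lies in `S` outside its centre `Z`, `[n, S] ≤ Z`, `n² ∈ Z`, and `n² = 1` when `|Z| = 2`. -/
structure Near (S : Sylow 2 G) (n : G) : Prop where
  mem : n ∈ (S : Subgroup G)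
  notMem : n ∉ zc S
  comm : ∀ s ∈ (S : Subgroup G), n * s * n⁻¹ * s⁻¹ ∈ zc S
  sq : n * n ∈ zc S
  sq_one : (∀ a ∈ zc S, ∀ b ∈ zc S, a ≠ 1 → b ≠ 1 → a = b) → n * n = 1

/-- The commutator of `n` and `s`. -/
def phi (n s : G) : G := n * s * n⁻¹ * s⁻¹

theorem phi_eq_one_iff {n s : G} : phi n s = 1 ↔ n * s = s * n := by
  rw [phi, mul_inv_eq_one, mul_inv_eq_iff_eq_mul]

theorem phi_mul_self {n s : G} : phi n s * s = n * s * n⁻¹ := by
  rw [phi]; group

variable {S : Sylow 2 G} {n : G}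

theorem Near.phi_mem (hn : Near S n) {s : G} (hs : s ∈ (S : Subgroup G)) : phi n s ∈ zc S :=
  hn.comm s hs

theorem Near.phi_mul (hn : Near S n) {s t : G} (hs : s ∈ (S : Subgroup G))
    (ht : t ∈ (S : Subgroup G)) : phi n (s * t) = phi n s * phi n t := by
  have h : s * phi n t = phi n t * s := zc_comm (hn.phi_mem ht) hs
  calc phi n (s * t) = phi n s * (s * phi n t) * s⁻¹ := by simp only [phi]; group
    _ = phi n s * phi n t := by rw [h]; group

theorem Near.phi_sq (hn : Near S n) {s : G} (hs : s ∈ (S : Subgroup G)) :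
    phi n s * phi n s = 1 := by
  have h1 : n * phi n s = phi n s * n := zc_comm (hn.phi_mem hs) hn.mem
  have h2 : s * (n * n) = n * n * s := zc_comm hn.sq hs
  calc phi n s * phi n s = phi n s * n * n⁻¹ * phi n s := by group
    _ = n * phi n s * n⁻¹ * phi n s := by rw [h1]
    _ = n * n * s * (n * n)⁻¹ * s⁻¹ := by simp only [phi]; group
    _ = 1 := by rw [← h2]; group

theorem Near.phi_inv (hn : Near S n) {s : G} (hs : s ∈ (S : Subgroup G)) :
    phi n s⁻¹ = phi n s := by
  have h := hn.phi_mul hs (inv_mem hs)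
  rw [mul_inv_cancel, show phi n (1 : G) = 1 by simp [phi]] at h
  rw [← inv_eq_of_mul_eq_one_right h.symm, inv_eq_of_mul_eq_one_right (hn.phi_sq hs)]

theorem Near.phi_eq_one_of_zc (hn : Near S n) {z : G} (hz : z ∈ zc S) : phi n z = 1 :=
  phi_eq_one_iff.2 (zc_comm hz hn.mem)

theorem phi_self : phi n n = 1 := phi_eq_one_iff.2 rfl

theorem Near.phi_conj (hn : Near S n) {s a : G} (hs : s ∈ (S : Subgroup G))
    (ha : a ∈ (S : Subgroup G)) : phi n (s * a * s⁻¹) = phi n a := by
  rw [hn.phi_mul (mul_mem hs ha) (inv_mem hs), hn.phi_mul hs ha, hn.phi_inv hs,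
    show phi n s * phi n a = phi n a * phi n s from
      zc_comm (hn.phi_mem ha) (zc_le (hn.phi_mem hs)),
    mul_assoc, hn.phi_sq hs, mul_one]

/-- A member `D` of the conjugation family with a fusion quotient not centralising `n`. -/
structure Datum (S : Sylow 2 G) (n : G) (D : Subgroup G) (x0 d0 : G) : Prop where
  near : Near S n
  le : D ≤ (S : Subgroup G)
  zc_le' : zc S ≤ D
  cent : centralizer (D : Set G) ≤ D
  radical : ∀ N : Subgroup G, N ≤ normalizer (D : Set G) → IsPGroup 2 N →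
    normalizer (D : Set G) ≤ normalizer (N : Set G) → N ≤ D
  syl : ¬ 2 ∣ ((S : Subgroup G) ⊓ normalizer (D : Set G)).relIndex (normalizer (D : Set G))
  x0_mem : x0 ∈ normalizer (D : Set G)
  x0_notMem : x0 ∉ (S : Subgroup G)
  d0_mem : d0 ∈ D
  phi_ne : phi n (d0⁻¹ * (x0⁻¹ * d0 * x0)) ≠ 1

variable [Finite G] [IsSimpleGroup G]

theorem exists_datum (h : Setup S) (hn : Near S n) : ∃ D x0 d0, Datum S n D x0 d0 := by
  haveI : Fact (Nat.Prime 2) := ⟨Nat.prime_two⟩
  have hM : ¬ (S : Subgroup G) ≤ centralizer ({n} : Set G) := fun hle =>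
    hn.notMem ⟨hn.mem, mem_centralizer_iff.2 fun s hs => mem_centralizer_singleton_iff.1 (hle hs)⟩
  obtain ⟨D, ⟨hDS, hcX, hprod, hsyl⟩, x, hx, a, ha, hq⟩ := exists_goldschmidt h _ hM
  set L := normalizer (D : Set G) with hL
  obtain ⟨hO, hDX, hcomm, hinf, hsup⟩ := hprod
  set O := (pPrimeCore 2 ↥L).map L.subtype with hOdef
  have hOodd : ∀ y ∈ O, y ∈ (S : Subgroup G) → y = 1 := by
    rintro _ ⟨k, hk, rfl⟩ hyS
    obtain ⟨i, hi⟩ := S.2 ⟨L.subtype k, hyS⟩
    have hi' : k ^ 2 ^ i = 1 := Subtype.ext (by simpa using congrArg Subtype.val hi)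
    have h1 : orderOf k ∣ 2 ^ i := orderOf_dvd_of_pow_eq_one hi'
    have h2 : orderOf k ∣ Nat.card (pPrimeCore 2 ↥L) := by
      simpa [Subgroup.orderOf_mk] using orderOf_dvd_natCard (⟨k, hk⟩ : pPrimeCore 2 ↥L)
    have h3 : (Nat.card (pPrimeCore 2 ↥L)).Coprime (2 ^ i) :=
      (PCore.coprime_card_pPrimeCore (p := 2) (G := ↥L)).pow_right i
    rw [orderOf_eq_one_iff.1 (Nat.eq_one_of_dvd_coprimes h3 h2 h1)]
    rfl
  have hzD : zc S ≤ D := by
    intro z hz
    have hzX := hcX (mem_centralizer_iff.2 fun d hd => zc_comm hz (hDS hd))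
    rw [← hsup] at hzX
    have hnorm : D ≤ normalizer (O : Set G) :=
      le_trans (fun d hd => mem_centralizer_iff.2 fun o ho => hcomm o ho d hd)
        (centralizer_le_normalizer _)
    rw [← SetLike.mem_coe, coe_mul_of_right_le_normalizer_left O D hnorm] at hzX
    obtain ⟨o, ho, d, hd, rfl⟩ := Set.mem_mul.1 hzX
    have : o ∈ (S : Subgroup G) := by
      simpa using mul_mem (zc_le hz) (inv_mem (hDS hd))
    rw [hOodd o ho this, one_mul]
    exact hd
  obtain ⟨z, hz, hzo⟩ := exists_involution h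
  have hz1 : z ≠ 1 := fun e => by simp [e] at hzo
  have hOS : O ≤ (S : Subgroup G) := by
    rw [← h.centralizer_eq hz hz1]
    exact fun o ho => mem_centralizer_singleton_iff.2 (hcomm o ho z (hzD hz))
  have hObot : O = ⊥ := (eq_bot_iff_forall _).2 fun o ho => hOodd o ho (hOS ho)
  have hXD : (pPrimePCore 2 ↥L).map L.subtype = D := by rw [← hsup, hObot, bot_sup_eq]
  have hphi : phi n (a⁻¹ * (x⁻¹ * a * x)) ≠ 1 := fun e =>
    hq (mem_centralizer_singleton_iff.2 (phi_eq_one_iff.1 e).symm)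
  refine ⟨D, x, a, hn, hDS, hzD, hcX.trans hXD.le, ?_, hsyl, hx, ?_, ha, hphi⟩
  · intro N hNL hN hLN
    intro y hy
    haveI hNn : (N.subgroupOf L).Normal := (normal_subgroupOf_iff_le_normalizer hNL).2 hLN
    exact hXD.le ⟨⟨y, hNL hy⟩, PCore.pCore_le_pPrimePCore
      (PCore.le_pCore (N := N.subgroupOf L) (hN.comap_subtype) (show (⟨y, hNL hy⟩ : L) ∈ N.subgroupOf L from hy)), rfl⟩
  · intro hxS
    apply hphi
    have haS := hDS ha
    have := hn.phi_conj (inv_mem hxS) haS
    rw [inv_inv] at this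
    rw [hn.phi_mul (inv_mem haS) (mul_mem (mul_mem (inv_mem hxS) haS) hxS), hn.phi_inv haS, this,
      hn.phi_sq haS]

end Cfsg.Agent.SylowMaxTwo
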