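import Cfsg.Agent.Lib.SylowMaxTwo.Local

/-!
# `n` does not lie in `D`
-/

set_option autoImplicit false
set_option linter.style.haveILetI false
set_option linter.unusedSectionVars false
set_option linter.unusedVariables false

namespace Cfsg.Agent.SylowMaxTwo

open Subgroup

variable {G : Type*} [Group G]

variable {S : Sylow 2 G} {n : G} {D : Subgroup G} {x0 d0 : G}

theorem Datum.conj_mem (hD : Datum S n D x0 d0) {g d : G} (hg : g ∈ normalizer (D : Set G))
    (hd : d ∈ D) : g * d * g⁻¹ ∈ D :=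
  (mem_normalizer_iff.1 hg d).1 hd

theorem Datum.conj_mem' (hD : Datum S n D x0 d0) {g d : G} (hg : g ∈ normalizer (D : Set G))
    (hd : d ∈ D) : g⁻¹ * d * g ∈ D :=
  (mem_normalizer_iff''.1 hg d).1 hd

theorem Datum.n_mem_normalizer [Finite G] (hD : Datum S n D x0 d0) :
    n ∈ normalizer (D : Set G) := by
  refine Transfer.mem_normalizer_of_conj_mem fun d hd => ?_
  rw [← phi_mul_self]
  exact mul_mem (hD.zc_le' (hD.near.phi_mem (hD.le hd))) hd

theorem Datum.exists_phi_ne (hD : Datum S n D x0 d0) : ∃ d ∈ D, phi n d ≠ 1 :=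
  ⟨_, mul_mem (inv_mem hD.d0_mem) (hD.conj_mem' hD.x0_mem hD.d0_mem), hD.phi_ne⟩

theorem Datum.comm_cent (hD : Datum S n D x0 d0) {a d : G} (ha : a ∈ centralizer (D : Set G))
    (hd : d ∈ D) : d * a = a * d := mem_centralizer_iff.1 ha d hd

theorem Datum.zc_le_cent (hD : Datum S n D x0 d0) : zc S ≤ centralizer (D : Set G) :=
  fun _ hz => mem_centralizer_iff.2 fun _ hd => zc_comm hz (hD.le hd)

theorem Datum.conj_cent (hD : Datum S n D x0 d0) {g a : G} (hg : g ∈ normalizer (D : Set G))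
    (ha : a ∈ centralizer (D : Set G)) : g * a * g⁻¹ ∈ centralizer (D : Set G) := by
  refine mem_centralizer_iff.2 fun d hd => ?_
  have h := hD.comm_cent ha (hD.conj_mem' hg hd)
  calc d * (g * a * g⁻¹) = g * ((g⁻¹ * d * g) * a) * g⁻¹ := by group
    _ = g * (a * (g⁻¹ * d * g)) * g⁻¹ := by rw [h]
    _ = g * a * g⁻¹ * d := by group

variable [Finite G] [IsSimpleGroup G]

/-- The conjugates of the centre of `S` by elements outside `S` meet it trivially. -/
theorem Datum.zc_inf_conj (h : Setup S) {g z : G} (hg : g ∉ (S : Subgroup G)) (hz : z ∈ zc S)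
    (hz' : g * z * g⁻¹ ∈ zc S) : z = 1 := by
  by_contra hz1
  exact hg (h.mem_of_conj_mem hz hz1 hz')

theorem Datum.lt_sylowPart (h : Setup S) (hD : Datum S n D x0 d0) :
    D < (S : Subgroup G) ⊓ normalizer (D : Set G) := by
  haveI : Fact (Nat.Prime 2) := ⟨Nat.prime_two⟩
  refine Transfer.lt_inf_normalizer_of_lt S.2 (lt_of_le_of_ne hD.le fun e => hD.x0_notMem ?_)
  have := hD.x0_mem
  rwa [e, h.normalizer_eq] at this

theorem Datum.sylowPart_lt (hD : Datum S n D x0 d0) :
    (S : Subgroup G) ⊓ normalizer (D : Set G) < normalizer (D : Set G) :=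
  lt_of_le_of_ne inf_le_right fun e => hD.x0_notMem (e.symm.le hD.x0_mem).1

theorem Datum.normalizer_lt_top (h : Setup S) (hD : Datum S n D x0 d0) :
    normalizer (D : Set G) < ⊤ := by
  refine lt_top_iff_ne_top.2 (normalizer_ne_top (fun e => zc_ne_bot h ?_) fun e => h.ne_top ?_)
  · exact le_bot_iff.1 (e ▸ hD.zc_le')
  · exact top_le_iff.1 (e ▸ hD.le)

theorem Datum.card_le (h : Setup S) (hD : Datum S n D x0 d0) : Nat.card D ≤ 32 := by
  haveI : Fact (Nat.Prime 2) := ⟨Nat.prime_two⟩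
  obtain ⟨d, hd⟩ := IsPGroup.iff_card.1 (S.2.to_le hD.le)
  have := h.height_le ((((tower_of_card d _ hd).step (hD.lt_sylowPart h)).step hD.sylowPart_lt).step
    (hD.normalizer_lt_top h))
  rw [hd]
  calc 2 ^ d ≤ 2 ^ 5 := Nat.pow_le_pow_right two_pos (by omega)
    _ = 32 := by norm_num

theorem two_mul_card_le {K L : Subgroup G} (hL : IsPGroup 2 L) (hlt : K < L) :
    2 * Nat.card K ≤ Nat.card L := by
  haveI : Fact (Nat.Prime 2) := ⟨Nat.prime_two⟩
  obtain ⟨a, ha⟩ := IsPGroup.iff_card.1 (hL.to_le hlt.le)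
  obtain ⟨b, hb⟩ := IsPGroup.iff_card.1 hL
  have hab : a < b := by
    by_contra hle
    refine hlt.ne (eq_of_le_of_card_ge hlt.le ?_)
    rw [ha, hb]
    exact Nat.pow_le_pow_right two_pos (not_lt.1 hle)
  rw [ha, hb, ← pow_succ']
  exact Nat.pow_le_pow_right two_pos hab

theorem Datum.notMem (h : Setup S) (hD : Datum S n D x0 d0) : n ∉ D := by
  intro hnD
  set ZD := centralizer (D : Set G) with hZD
  obtain ⟨d1, hd1, hphi1⟩ := hD.exists_phi_ne
  have hnZD : n ∉ ZD := fun hh => hphi1 (phi_eq_one_iff.2 (hD.comm_cent hh hd1).symm)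
  have hD2 : IsPGroup 2 D := S.2.to_le hD.le
  have hK1 : ZD < ZD ⊔ zpowers n :=
    lt_of_le_of_ne le_sup_left fun e => hnZD (e.symm.le (mem_sup_right (mem_zpowers n)))
  have hKD : ZD ⊔ zpowers n ≤ D := sup_le hD.cent (zpowers_le.2 hnD)
  have hKn : ∀ k ∈ ZD ⊔ zpowers n, n * k = k * n := by
    intro k hk
    have hle : ZD ⊔ zpowers n ≤ centralizer ({n} : Set G) := sup_le
      (fun a ha => mem_centralizer_singleton_iff.2 (hD.comm_cent ha hnD).symm)
      (zpowers_le.2 (mem_centralizer_singleton_iff.2 rfl))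
    exact (mem_centralizer_singleton_iff.1 (hle hk)).symm
  set g := x0⁻¹ with hgdef
  have hgL : g ∈ normalizer (D : Set G) := inv_mem hD.x0_mem
  have hgS : g ∉ (S : Subgroup G) := fun hh => hD.x0_notMem (inv_mem_iff.1 hh)
  have hcard := hD.card_le h
  by_cases hbig : ∃ a ∈ zc S, ∃ b ∈ zc S, a ≠ 1 ∧ b ≠ 1 ∧ a ≠ b
  · obtain ⟨a, ha, b, hb, ha1, hb1, hab⟩ := hbig
    have hZ3 : 3 ≤ Nat.card (zc S) := by
      classical
      haveI := Fintype.ofFinite G
      rw [Nat.card_eq_fintype_card, Fintype.card_subtype]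
      refine le_trans (le_of_eq ?_) (Finset.card_le_card (s := {1, a, b}) ?_)
      · rw [Finset.card_insert_of_notMem (by simp [ha1.symm, hb1.symm]), Finset.card_pair hab]
      · intro y hy
        simp only [Finset.mem_insert, Finset.mem_singleton] at hy
        simp only [Finset.mem_filter, Finset.mem_univ, true_and]
        rcases hy with rfl | rfl | rfl
        · exact one_mem _
        · exact ha
        · exact hb
    haveI : Fact (Nat.Prime 2) := ⟨Nat.prime_two⟩
    obtain ⟨j, hj⟩ := IsPGroup.iff_card.1 (S.2.to_le (zc_le (S := S)))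
    have hZ4 : 4 ≤ Nat.card (zc S) := by
      rcases j with _ | _ | j
      · omega
      · omega
      · rw [hj, pow_succ, pow_succ]
        have := Nat.two_pow_pos j
        omega
    let f : zc S × zc S → ZD := fun p => ⟨(p.1 : G) * (g * (p.2 : G) * g⁻¹),
      mul_mem (hD.zc_le_cent p.1.2) (hD.conj_cent hgL (hD.zc_le_cent p.2.2))⟩
    have hf : Function.Injective f := by
      rintro ⟨⟨a, ha⟩, ⟨b, hb⟩⟩ ⟨⟨a', ha'⟩, ⟨b', hb'⟩⟩ he
      have he' : a * (g * b * g⁻¹) = a' * (g * b' * g⁻¹) := congrArg Subtype.val he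
      have hm : g * (b * b'⁻¹) * g⁻¹ ∈ zc S := by
        have : g * (b * b'⁻¹) * g⁻¹ = a⁻¹ * a' := by
          calc g * (b * b'⁻¹) * g⁻¹ = a⁻¹ * (a * (g * b * g⁻¹)) * (g * b' * g⁻¹)⁻¹ := by group
            _ = a⁻¹ * a' := by rw [he']; group
        rw [this]
        exact mul_mem (inv_mem ha) ha'
      have hbb : b = b' := mul_inv_eq_one.1 (Datum.zc_inf_conj h hgS (mul_mem hb (inv_mem hb')) hm)
      subst hbb
      have := mul_right_cancel he'
      subst this
      rfl
    have h16 := Nat.card_le_card_of_injective f hf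
    rw [Nat.card_prod] at h16
    have hlt2 : ZD ⊔ zpowers n < D :=
      lt_of_le_of_ne hKD fun e => hphi1 (phi_eq_one_iff.2 (hKn d1 (e.symm.le hd1)))
    have := two_mul_card_le (hD2.to_le hKD) hK1
    have := two_mul_card_le hD2 hlt2
    have := Nat.mul_le_mul hZ4 hZ4
    omega
  push Not at hbig
  have hone : ∀ a ∈ zc S, ∀ b ∈ zc S, a ≠ 1 → b ≠ 1 → a = b := fun a ha b hb h1 h2 =>
    hbig a ha b hb h1 h2
  have hnn := hD.near.sq_one hone
  set m := g * n * g⁻¹ with hmdef
  have hmD : m ∈ D := hD.conj_mem hgL hnD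
  have hphim : ∀ d ∈ D, phi m d = g * phi n (g⁻¹ * d * g) * g⁻¹ := fun d _ => by
    simp only [phi, hmdef]; group
  have hmn : n * m = m * n := by
    rw [← phi_eq_one_iff]
    have h1 : g⁻¹ * n * g ∈ D := hD.conj_mem' hgL hnD
    have e1 : phi n m = g * (phi n (g⁻¹ * n * g))⁻¹ * g⁻¹ := by
      simp only [phi, hmdef]; group
    have h2 := hD.near.phi_mem (hD.le hmD)
    rw [e1] at h2
    have := Datum.zc_inf_conj h hgS (inv_mem (hD.near.phi_mem (hD.le h1))) h2
    rw [e1, this]
    group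
  have hmK : m ∉ ZD ⊔ zpowers n := by
    intro hm
    have hnorm : zpowers n ≤ normalizer (ZD : Set G) := by
      refine (zpowers_le.2 ?_).trans (centralizer_le_normalizer _)
      exact mem_centralizer_iff.2 fun a ha => (hD.comm_cent ha hnD).symm
    rw [← SetLike.mem_coe, coe_mul_of_right_le_normalizer_left ZD (zpowers n) hnorm] at hm
    obtain ⟨a, ha, b, hb, hab⟩ := Set.mem_mul.1 hm
    have hmem : ∀ d ∈ D, phi m d ∈ zc S := by
      intro d hd
      have hb' : b = 1 ∨ b = n := by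
        obtain ⟨i, rfl⟩ := mem_zpowers_iff.1 hb
        rcases Int.even_or_odd' i with ⟨l, rfl | rfl⟩
        · left; rw [zpow_mul, zpow_two, hnn, one_zpow]
        · right; rw [zpow_add, zpow_mul, zpow_two, hnn, one_zpow, one_mul, zpow_one]
      have e : phi m d = phi b d := by
        have hbd : b * d * b⁻¹ ∈ D := by
          rcases hb' with rfl | rfl
          · simpa using hd
          · exact mul_mem (mul_mem hnD hd) (inv_mem hnD)
        simp only [phi]
        rw [← hab]
        calc a * b * d * (a * b)⁻¹ * d⁻¹ = (a * (b * d * b⁻¹)) * a⁻¹ * d⁻¹ := by group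
          _ = b * d * b⁻¹ * d⁻¹ := by rw [← hD.comm_cent ha hbd]; group
      rw [e]
      rcases hb' with rfl | rfl
      · simp [phi]
      · exact hD.near.phi_mem (hD.le hd)
    apply hnZD
    have hmZD : m ∈ ZD := mem_centralizer_iff.2 fun d hd => by
      have h2 := hmem d hd
      rw [hphim d hd] at h2
      have := Datum.zc_inf_conj h hgS (hD.near.phi_mem (hD.le (hD.conj_mem' hgL hd))) h2
      have h3 : phi m d = 1 := by rw [hphim d hd, this]; group
      exact (phi_eq_one_iff.1 h3).symm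
    have := hD.conj_cent (inv_mem hgL) hmZD
    rwa [hmdef, show g⁻¹ * (g * n * g⁻¹) * g⁻¹⁻¹ = n by group] at this
  have hcentK : ∀ c ∈ D, (∀ a ∈ ZD, c * a = a * c) := fun c hc a ha => hD.comm_cent ha hc
  set H := D ⊓ centralizer ({n} : Set G) with hH
  set H' := D ⊓ centralizer ({m} : Set G) with hH'
  set K := ZD ⊔ zpowers n ⊔ zpowers m with hK
  have hKH : K ≤ H := sup_le (fun k hk => ⟨hKD hk, mem_centralizer_singleton_iff.2 (hKn k hk).symm⟩)
    (zpowers_le.2 ⟨hmD, mem_centralizer_singleton_iff.2 hmn.symm⟩)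
  have hKH' : K ≤ H' := by
    refine sup_le (sup_le (fun k hk => ⟨hD.cent hk,
      mem_centralizer_singleton_iff.2 (hcentK m hmD k hk).symm⟩)
      (zpowers_le.2 ⟨hnD, mem_centralizer_singleton_iff.2 hmn⟩))
      (zpowers_le.2 ⟨hmD, mem_centralizer_singleton_iff.2 rfl⟩)
  have hHlt : H < D := lt_of_le_of_ne inf_le_left fun e =>
    hphi1 (phi_eq_one_iff.2 (mem_centralizer_singleton_iff.1 (e.symm.le hd1).2).symm)
  have hH'lt : H' < D := by
    refine lt_of_le_of_ne inf_le_left fun e => hnZD ?_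
    have hmZD : m ∈ ZD := mem_centralizer_iff.2 fun d hd =>
      mem_centralizer_singleton_iff.1 (e.symm.le hd).2
    exact absurd (mem_sup_left hmZD) hmK
  obtain ⟨z, hz, hzo⟩ := exists_involution h
  have hz1 : z ≠ 1 := fun e => by simp [e] at hzo
  have hzg : g * z * g⁻¹ ≠ z := fun e => hgS (h.mem_of_conj_mem hz hz1 (e.symm ▸ hz))
  have hZD4 : 4 ≤ Nat.card ZD := by
    classical
    haveI := Fintype.ofFinite G
    haveI : Fact (Nat.Prime 2) := ⟨Nat.prime_two⟩
    obtain ⟨j, hj⟩ : ∃ j, Nat.card ZD = 2 ^ j := IsPGroup.iff_card.1 (hD2.to_le hD.cent)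
    have h3 : 3 ≤ Nat.card ZD := by
      rw [Nat.card_eq_fintype_card, Fintype.card_subtype]
      refine le_trans (le_of_eq ?_) (Finset.card_le_card (s := {1, z, g * z * g⁻¹}) ?_)
      · rw [Finset.card_insert_of_notMem, Finset.card_pair hzg.symm]
        simp only [Finset.mem_insert, Finset.mem_singleton, not_or]
        exact ⟨hz1.symm, fun e => hz1 (by
          calc z = g⁻¹ * (g * z * g⁻¹) * g := by group
            _ = 1 := by rw [← e]; group)⟩
      · intro y hy
        simp only [Finset.mem_insert, Finset.mem_singleton] at hy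
        simp only [Finset.mem_filter, Finset.mem_univ, true_and]
        rcases hy with rfl | rfl | rfl
        · exact one_mem _
        · exact hD.zc_le_cent hz
        · exact hD.conj_cent hgL (hD.zc_le_cent hz)
    rcases j with _ | _ | j
    · omega
    · omega
    · rw [hj, pow_succ, pow_succ]
      have := Nat.two_pow_pos j
      omega
  have hK2 : ZD ⊔ zpowers n < K :=
    lt_of_le_of_ne le_sup_left fun e => hmK (e.symm.le (mem_sup_right (mem_zpowers m)))
  have := two_mul_card_le (hD2.to_le hKD) hK1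
  have := two_mul_card_le (hD2.to_le (hKH.trans inf_le_left)) hK2
  have := two_mul_card_le hD2 hHlt
  have := two_mul_card_le hD2 hH'lt
  have e1 : K = H := eq_of_le_of_card_ge hKH (by omega)
  have e2 : K = H' := eq_of_le_of_card_ge hKH' (by omega)
  have hd0 := hD.d0_mem
  set a := x0⁻¹ * d0 * x0 with ha
  have haD : a ∈ D := hD.conj_mem' hD.x0_mem hd0
  have hiff : phi n a = 1 ↔ phi n d0 = 1 := by
    have h1 : ∀ b ∈ D, (phi n b = 1 ↔ b ∈ H) := fun b hb =>
      ⟨fun e => ⟨hb, mem_centralizer_singleton_iff.2 (phi_eq_one_iff.1 e).symm⟩,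
        fun e => phi_eq_one_iff.2 (mem_centralizer_singleton_iff.1 e.2).symm⟩
    rw [h1 a haD, h1 d0 hd0]
    nth_rewrite 1 [← e1, e2]
    constructor
    · intro hh
      refine ⟨hd0, mem_centralizer_singleton_iff.2 ?_⟩
      have hc := mem_centralizer_singleton_iff.1 hh.2
      rw [ha, hmdef, hgdef, inv_inv] at hc
      calc d0 * n = x0 * ((x0⁻¹ * d0 * x0) * (x0⁻¹ * n * x0)) * x0⁻¹ := by group
        _ = x0 * ((x0⁻¹ * n * x0) * (x0⁻¹ * d0 * x0)) * x0⁻¹ := by rw [hc]
        _ = n * d0 := by group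
    · intro hh
      refine ⟨haD, mem_centralizer_singleton_iff.2 ?_⟩
      have hc := mem_centralizer_singleton_iff.1 hh.2
      rw [ha, hmdef, hgdef, inv_inv]
      calc (x0⁻¹ * d0 * x0) * (x0⁻¹ * n * x0) = x0⁻¹ * (d0 * n) * x0 := by group
        _ = x0⁻¹ * (n * d0) * x0 := by rw [hc]
        _ = (x0⁻¹ * n * x0) * (x0⁻¹ * d0 * x0) := by group
  apply hD.phi_ne
  rw [hD.near.phi_mul (inv_mem (hD.le hd0)) (hD.le haD), hD.near.phi_inv (hD.le hd0)]
  by_cases h0 : phi n d0 = 1
  · rw [h0, hiff.2 h0, one_mul]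
  · rw [hone _ (hD.near.phi_mem (hD.le haD)) _ (hD.near.phi_mem (hD.le hd0))
      (fun e => h0 (hiff.1 e)) h0, hD.near.phi_sq (hD.le hd0)]

end Cfsg.Agent.SylowMaxTwo
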