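import Cfsg.Agent.Lib.SylowMaxTwo.Split

/-!
# The Sylow subgroup of `N(D)` contains `D` with index 2
-/

set_option autoImplicit false
set_option linter.style.haveILetI false
set_option linter.unusedSectionVars false
set_option linter.unusedVariables false

namespace Cfsg.Agent.SylowMaxTwo

open Subgroup

variable {G : Type*} [Group G]

variable {S : Sylow 2 G} {n : G} {D : Subgroup G} {x0 d0 : G} {x : G} {C E : Subgroup G}

theorem Split.conj_mem_of_comm (hD : Datum S n D x0 d0) (hx : Odd2 S n D x)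
    (hs : Split S n D x C E) {y : G} (hy : y ∈ normalizer (D : Set G))
    (hc : y * x * y⁻¹ * x⁻¹ ∈ D) {e : G} (he : e ∈ E) : y * e * y⁻¹ ∈ E := by
  obtain ⟨e1, he1, rfl⟩ := hs.E_eq e he
  set u := y * e1 * y⁻¹ with hu
  have huZ : u ∈ centralizer (D : Set G) := hD.conj_cent hy (hs.E_cent he1)
  obtain ⟨c, hcC, e2, he2, hce⟩ := hs.decomp u (hD.cent huZ)
  set δ := y * x * y⁻¹ * x⁻¹ with hδ
  have hu' : x * u * x⁻¹ ∈ centralizer (D : Set G) := hD.conj_cent hx.mem huZ
  have h1 : δ * (x * u * x⁻¹) = (x * u * x⁻¹) * δ := hD.comm_cent hu' hc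
  have h2 : c * x = x * c := (hs.C_x c hcC).symm
  have e0 : y * (e1⁻¹ * (x * e1 * x⁻¹)) * y⁻¹ = e2⁻¹ * (x * e2 * x⁻¹) := by
    calc y * (e1⁻¹ * (x * e1 * x⁻¹)) * y⁻¹ = u⁻¹ * (δ * (x * u * x⁻¹)) * δ⁻¹ := by
          rw [hu, hδ]; group
      _ = u⁻¹ * (x * u * x⁻¹) := by rw [h1]; group
      _ = e2⁻¹ * c⁻¹ * (x * c) * e2 * x⁻¹ := by rw [hce]; group
      _ = e2⁻¹ * (x * e2 * x⁻¹) := by rw [← h2]; group
  rw [e0]
  exact mul_mem (inv_mem he2) (hs.x_E e2 he2)

variable [Finite G] [IsSimpleGroup G]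

theorem Datum.two_le_card_zc (h : Setup S) (hD : Datum S n D x0 d0) : 2 ≤ Nat.card (zc S) := by
  haveI : Nontrivial (zc S) := (nontrivial_iff_ne_bot _).2 (zc_ne_bot h)
  exact Finite.one_lt_card

theorem orderOf_three (h : Setup S) (hD : Datum S n D x0 d0) (hx : Odd2 S n D x)
    (hs : Split S n D x C E) (hE : Nat.card E = 4) : orderOf x = 3 := by
  classical
  haveI := Fintype.ofFinite G
  set c := fun e : G => x * e * x⁻¹ with hcdef
  have hinj : ∀ a b : G, c a = c b → a = b := fun a b hab => by simpa [c] using hab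
  have hc1 : ∀ e : G, e ≠ 1 → c e ≠ 1 := fun e he hh => he (hinj e 1 (by simpa [c] using hh))
  have key : ∀ e ∈ E, x ^ 3 * e * (x ^ 3)⁻¹ = e := by
    intro e he
    by_cases he1 : e = 1
    · simp [he1]
    have h3 : x ^ 3 * e * (x ^ 3)⁻¹ = c (c (c e)) := by simp [c, pow_succ, mul_assoc]
    rw [h3]
    have n1 : c e ≠ e := fun hh => he1 (hs.fpf e he hh)
    have n2 : c (c e) ≠ c e := fun hh => n1 (hinj _ _ hh)
    have n3 : c (c e) ≠ e := by
      intro hh
      obtain ⟨r, hr⟩ := hx.odd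
      have hh2 : (x * x) * e = e * (x * x) := by
        have := hh
        simp only [c] at this
        calc x * x * e = (x * (x * e * x⁻¹) * x⁻¹) * (x * x) := by group
          _ = _ := by rw [this]
      have hcomm : Commute ((x * x) ^ (r + 1)) e := (show Commute (x * x) e from hh2).pow_left _
      rw [← pow_two, ← pow_mul, show 2 * (r + 1) = orderOf x + 1 by omega, pow_succ,
        pow_orderOf_eq_one, one_mul] at hcomm
      exact n1 (by show x * e * x⁻¹ = e; rw [hcomm.eq, mul_inv_cancel_right])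
    have m1 : c e ∈ E := hs.x_E _ he
    have m2 : c (c e) ∈ E := hs.x_E _ m1
    have m3 : c (c (c e)) ∈ E := hs.x_E _ m2
    have heq : ({1, e, c e, c (c e)} : Finset G) = Finset.univ.filter fun y => y ∈ E := by
      refine Finset.eq_of_subset_of_card_le ?_ ?_
      · intro y hy
        simp only [Finset.mem_insert, Finset.mem_singleton] at hy
        simp only [Finset.mem_filter, Finset.mem_univ, true_and]
        rcases hy with rfl | rfl | rfl | rfl
        · exact one_mem _
        · exact he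
        · exact m1
        · exact m2
      · rw [← Fintype.card_subtype, ← Nat.card_eq_fintype_card, hE, Finset.card_insert_of_notMem,
          Finset.card_insert_of_notMem, Finset.card_pair n2.symm]
        · simp [n1.symm, n3.symm]
        · simp [Ne.symm he1, (hc1 _ he1).symm, (hc1 _ (hc1 _ he1)).symm]
    have hm : c (c (c e)) ∈ ({1, e, c e, c (c e)} : Finset G) := heq ▸ by simpa using m3
    simp only [Finset.mem_insert, Finset.mem_singleton] at hm
    rcases hm with hh | hh | hh | hh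
    · exact absurd hh (hc1 _ (hc1 _ (hc1 _ he1)))
    · exact hh
    · exact absurd (hinj _ _ hh) n3
    · exact absurd (hinj _ _ hh) n2
  have h3D : x ^ 3 ∈ D := by
    refine hD.cent (mem_centralizer_iff.2 fun d hd => ?_)
    obtain ⟨k, hk, e, he, rfl⟩ := hs.decomp d hd
    have h1 : Commute (x ^ 3) k := (show Commute x k from hs.C_x k hk).pow_left 3
    have h2 : Commute (x ^ 3) e := mul_inv_eq_iff_eq_mul.1 (key e he)
    exact (h1.mul_right h2).eq.symm
  haveI : Fact (Nat.Prime 3) := ⟨Nat.prime_three⟩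
  refine orderOf_eq_prime ?_ fun e => hx.notMem (e ▸ one_mem _)
  haveI : Fact (Nat.Prime 2) := ⟨Nat.prime_two⟩
  obtain ⟨i, hi⟩ := IsPGroup.iff_orderOf.1 S.2 ⟨x ^ 3, hD.le h3D⟩
  rw [orderOf_mk] at hi
  have hodd : Odd (orderOf (x ^ 3)) := hx.odd.of_dvd_nat (orderOf_pow_dvd 3)
  rcases Nat.eq_zero_or_pos i with rfl | hi0
  · exact orderOf_eq_one_iff.1 hi
  · rw [hi] at hodd
    exact absurd hodd (Nat.not_odd_iff_even.2 (Nat.even_pow.2 ⟨even_two, hi0.ne'⟩))

theorem index_sylowPart_small (h : Setup S) (hD : Datum S n D x0 d0) (hx : Odd2 S n D x)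
    (hs : Split S n D x C E) (hsmall : Nat.card D ≤ 8) :
    ¬ 4 ∣ D.relIndex ((S : Subgroup G) ⊓ normalizer (D : Set G)) := by
  classical
  intro h4
  haveI : Fact (Nat.Prime 2) := ⟨Nat.prime_two⟩
  set L := normalizer (D : Set G) with hL
  set R' : Subgroup L := ((S : Subgroup G) ⊓ L).subgroupOf L with hR'
  set D' : Subgroup L := D.subgroupOf L with hD'
  haveI : D'.Normal := normal_in_normalizer
  have hE : Nat.card E = 4 := by
    have h1 := hs.cardE
    have h2 := hD.two_le_card_zc h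
    have h3 : Nat.card E ≤ 8 := (card_le_of_le hs.E_le).trans hsmall
    have h4 : Nat.card (zc S) ≤ 2 := by
      by_contra hh
      have := Nat.mul_le_mul (not_le.1 hh) (not_le.1 hh)
      omega
    rw [h1, le_antisymm h4 h2]
  have h3 := orderOf_three h hD hx hs hE
  obtain ⟨z, hz, hzo⟩ := exists_involution h
  have hz1 : z ≠ 1 := fun e => by simp [e] at hzo
  have hmodd : ¬ 2 ∣ R'.index := hD.syl
  have h3m : 3 ∣ R'.index := by
    have h3L : 3 ∣ Nat.card L := by
      rw [← h3, ← orderOf_mk x hx.mem]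
      exact orderOf_dvd_natCard _
    rw [← R'.card_mul_index] at h3L
    obtain ⟨i, hi⟩ := IsPGroup.iff_card.1 ((S.2.to_le (inf_le_left (b := L))).comap_subtype (K := L))
    rw [show Nat.card R' = 2 ^ i from hi] at h3L
    exact (Nat.prime_three.dvd_mul.1 h3L).resolve_left fun h2 => by
      have := Nat.prime_three.dvd_of_dvd_pow h2
      norm_num at this
  have hm8 : R'.index < 8 := by
    let f : L ⧸ R' → centralizer (D : Set G) := Quotient.lift
      (fun g : L => (⟨(g : G) * z * (g : G)⁻¹, hD.conj_cent g.2 (hD.zc_le_cent hz)⟩ :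
        centralizer (D : Set G))) (by
      intro a b hab
      have hab' : (a⁻¹ * b : L) ∈ R' := QuotientGroup.leftRel_apply.1 hab
      refine Subtype.ext ?_
      have hs' : ((a : G)⁻¹ * b) ∈ (S : Subgroup G) := hab'.1
      have hc := zc_comm hz hs'
      calc (a : G) * z * (a : G)⁻¹ = a * (z * ((a : G)⁻¹ * b)) * (b : G)⁻¹ := by group
        _ = a * (((a : G)⁻¹ * b) * z) * (b : G)⁻¹ := by rw [hc]
        _ = (b : G) * z * (b : G)⁻¹ := by group)
    have hf : Function.Injective f := by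
      intro p q hpq
      induction p using Quotient.inductionOn with
      | h a => induction q using Quotient.inductionOn with
        | h b =>
          have hpq' : (a : G) * z * (a : G)⁻¹ = b * z * (b : G)⁻¹ := congrArg Subtype.val hpq
          refine Quotient.sound (QuotientGroup.leftRel_apply.2 ?_)
          refine ⟨h.mem_of_conj_mem hz hz1 ?_, (a⁻¹ * b : L).2⟩
          have : ((a⁻¹ * b : L) : G) * z * ((a⁻¹ * b : L) : G)⁻¹ = z := by
            calc ((a⁻¹ * b : L) : G) * z * ((a⁻¹ * b : L) : G)⁻¹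
                = (a : G)⁻¹ * ((b : G) * z * (b : G)⁻¹) * a := by push_cast; group
              _ = z := by rw [← hpq']; group
          exact this.symm ▸ hz
    have hns : ¬ Function.Surjective f := by
      intro hsu
      obtain ⟨p, hp⟩ := hsu 1
      induction p using Quotient.inductionOn with
      | h a =>
        have hp' : (a : G) * z * (a : G)⁻¹ = 1 := congrArg Subtype.val hp
        exact hz1 (conj_eq_one_iff.1 hp')
    have h1 : Nat.card (L ⧸ R') < Nat.card (centralizer (D : Set G)) := by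
      refine lt_of_le_of_ne (Nat.card_le_card_of_injective f hf) fun he => hns ?_
      exact ((Nat.bijective_iff_injective_and_card f).2 ⟨hf, he⟩).2
    rw [← index_eq_card] at h1
    exact h1.trans_le ((card_le_of_le hD.cent).trans hsmall)
  have hm : R'.index = 3 := by omega
  have hcore : R'.normalCore ≤ D' := by
    intro a ha
    refine hD.radical (R'.normalCore.map L.subtype) (map_subtype_le _)
      (((S.2.to_le inf_le_left).comap_subtype.to_le (normalCore_le R')).map _) ?_ ⟨a, ha, rfl⟩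
    intro y hy
    refine Transfer.mem_normalizer_of_conj_mem ?_
    rintro _ ⟨b, hb, rfl⟩
    exact ⟨⟨y, hy⟩ * b * ⟨y, hy⟩⁻¹,
      (inferInstance : R'.normalCore.Normal).conj_mem b hb ⟨y, hy⟩, rfl⟩
  have h6 : R'.normalCore.index ∣ 6 := by
    rw [normalCore_eq_ker, index_ker]
    refine (card_subgroup_dvd_card _).trans (dvd_of_eq ?_)
    rw [Nat.card_perm, ← index_eq_card, hm]
    rfl
  have hD6 : D'.index ∣ 6 := (index_dvd_of_le hcore).trans h6
  have hsplit : D.relIndex ((S : Subgroup G) ⊓ L) * R'.index = D'.index := by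
    exact relIndex_mul_relIndex D ((S : Subgroup G) ⊓ L) L (hD.lt_sylowPart h).le inf_le_right
  rw [hm] at hsplit
  have := (dvd_mul_of_dvd_left h4 3).trans (dvd_of_eq hsplit) |>.trans hD6
  norm_num at this

theorem index_sylowPart_four (h : Setup S) (hD : Datum S n D x0 d0) (hx : Odd2 S n D x)
    (hs : Split S n D x C E) (hR : D.relIndex ((S : Subgroup G) ⊓ normalizer (D : Set G)) = 4)
    (hmax : ∀ M : Subgroup G, (S : Subgroup G) ⊓ normalizer (D : Set G) < M →
      M ≤ normalizer (D : Set G) → M = normalizer (D : Set G)) : False := by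
  classical
  haveI : Fact (Nat.Prime 2) := ⟨Nat.prime_two⟩
  set L := normalizer (D : Set G) with hL
  set R' : Subgroup L := ((S : Subgroup G) ⊓ L).subgroupOf L with hR'
  set D' : Subgroup L := D.subgroupOf L with hD'
  haveI : D'.Normal := normal_in_normalizer
  let π := QuotientGroup.mk' D'
  have hπ : ∀ a : L, π a = 1 ↔ (a : G) ∈ D := fun a => QuotientGroup.eq_one_iff a
  have hDR : D' ≤ R' := fun a ha => (hD.lt_sylowPart h).le ha
  have hker : π.ker = D' := QuotientGroup.ker_mk' D'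
  set Rb := R'.map π with hRb
  have hcomap : Rb.comap π = R' := comap_map_eq_self (hker.le.trans hDR)
  have hcardRb : Nat.card Rb = 4 := by
    have h1 : Rb.index = R'.index := index_map_eq _ (QuotientGroup.mk'_surjective _) (hker.le.trans hDR)
    have h2 := Rb.card_mul_index
    have h3 : D.relIndex ((S : Subgroup G) ⊓ L) * R'.index = D'.index :=
      relIndex_mul_relIndex D ((S : Subgroup G) ⊓ L) L (hD.lt_sylowPart h).le inf_le_right
    rw [h1, ← index_eq_card, ← h3, hR] at h2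
    exact Nat.eq_of_mul_eq_mul_right (Nat.pos_of_ne_zero index_ne_zero_of_finite) h2
  have hRbp : IsPGroup 2 Rb := IsPGroup.of_card (n := 2) hcardRb
  have hRbsyl : ¬ 2 ∣ Rb.index := by
    rw [index_map_eq _ (QuotientGroup.mk'_surjective _) (hker.le.trans hDR)]
    exact hD.syl
  have hD'p : IsPGroup 2 π.ker := by rw [hker]; exact (S.2.to_le hD.le).comap_subtype
  have hnormal2 : ∀ N : Subgroup (L ⧸ D'), N.Normal → IsPGroup 2 N → N = ⊥ := by
    intro N hN hNp
    refine (eq_bot_iff_forall _).2 fun q hq => ?_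
    obtain ⟨a, rfl⟩ := QuotientGroup.mk'_surjective D' q
    refine (hπ a).2 (hD.radical ((N.comap π).map L.subtype) (map_subtype_le _)
      ((hNp.comap_of_ker_isPGroup π hD'p).map _) ?_ ⟨a, hq, rfl⟩)
    intro y hy
    refine Transfer.mem_normalizer_of_conj_mem ?_
    rintro _ ⟨b, hb, rfl⟩
    exact ⟨⟨y, hy⟩ * b * ⟨y, hy⟩⁻¹,
      (inferInstance : (N.comap π).Normal).conj_mem b hb ⟨y, hy⟩, rfl⟩
  have hmaxb : ∀ M : Subgroup (L ⧸ D'), Rb ≤ M → M ≠ ⊤ → M = Rb := by
    intro M hM hne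
    refine le_antisymm ?_ hM
    have h1 : R' ≤ M.comap π := hcomap ▸ comap_mono hM
    by_contra hnot
    apply hne
    have hlt : (S : Subgroup G) ⊓ L < (M.comap π).map L.subtype := by
      refine lt_of_le_of_ne (fun a ha => ⟨⟨a, ha.2⟩, h1 ha, rfl⟩) fun e => hnot fun q hq => ?_
      obtain ⟨a, rfl⟩ := QuotientGroup.mk'_surjective D' q
      exact ⟨a, show (a : G) ∈ (S : Subgroup G) ⊓ L from e.symm.le ⟨a, hq, rfl⟩, rfl⟩
    have h2 := hmax _ hlt (map_subtype_le _)
    refine eq_top_iff.2 fun q _ => ?_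
    obtain ⟨a, rfl⟩ := QuotientGroup.mk'_surjective D' q
    obtain ⟨b, hb, hba⟩ := h2.symm.le a.2
    exact (Subtype.ext hba : b = a) ▸ hb
  set P : Sylow 2 (L ⧸ D') := hRbp.toSylow hRbsyl with hP
  have hPc : (P : Subgroup (L ⧸ D')) = Rb := rfl
  have hcommRb : ∀ a ∈ Rb, ∀ b ∈ Rb, a * b = b * a := fun a ha b hb =>
    congrArg Subtype.val ((IsPGroup.commutative_of_card_eq_prime_sq (p := 2) hcardRb)
      ⟨a, ha⟩ ⟨b, hb⟩)
  have hNR : normalizer (Rb : Set (L ⧸ D')) = Rb := by
    refine hmaxb _ le_normalizer fun e => ?_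
    have := hnormal2 Rb (normalizer_eq_top_iff.1 e) hRbp
    rw [this, Subgroup.card_bot] at hcardRb
    omega
  have hNC : normalizer ((P : Subgroup (L ⧸ D')) : Set (L ⧸ D')) ≤
      centralizer ((P : Subgroup (L ⧸ D')) : Set (L ⧸ D')) := by
    rw [hPc, hNR]
    exact fun a ha => mem_centralizer_iff.2 fun b hb => hcommRb b hb a ha
  have hcompl := MonoidHom.ker_transferSylow_isComplement' P hNC
  set K := (MonoidHom.transferSylow P hNC).ker with hKdef
  have hKdisj : ∀ k ∈ K, k ∈ Rb → k = 1 := fun k hk hk' =>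
    disjoint_def.1 hcompl.disjoint hk hk'
  have hKi : K.index = 4 := by rw [hcompl.symm.index_eq_card, hPc, hcardRb]
  -- the image of `x` lies in `K`
  set xL : L := ⟨x, hx.mem⟩ with hxL
  have hxodd : Odd (orderOf (π xL)) := by
    refine hx.odd.of_dvd_nat ((orderOf_map_dvd π xL).trans ?_)
    rw [hxL, orderOf_mk]
  have hxne : π xL ≠ 1 := fun e => hx.notMem (hD.le ((hπ xL).1 e))
  have hxK : π xL ∈ K := by
    obtain ⟨r, hr⟩ := hxodd
    have h4 : (π xL) ^ 4 ∈ K := hKi ▸ K.pow_index_mem _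
    have hco : (4 : ℕ).Coprime (orderOf (π xL)) := by
      rw [show (4 : ℕ) = 2 ^ 2 from rfl, hr]
      exact Nat.Coprime.pow_left 2 (Nat.coprime_two_left.2 ⟨r, rfl⟩)
    obtain ⟨i, hi⟩ := exists_pow_eq_self_of_coprime hco
    rw [← hi]
    exact pow_mem h4 i
  have hinv : ∀ r ∈ Rb, r * r = 1 → r ≠ 1 → ∀ k ∈ K, r * k * r⁻¹ = k⁻¹ := by
    intro r hr hrr hr1
    have hcent : centralizer ({r} : Set (L ⧸ D')) = Rb := by
      refine hmaxb _ (fun a ha => mem_centralizer_singleton_iff.2 (hcommRb a ha r hr)) fun e => hr1 ?_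
      have hn : (zpowers r).Normal := ⟨fun a ha g => by
        obtain ⟨i, rfl⟩ := mem_zpowers_iff.1 ha
        have hg : Commute g r := mem_centralizer_singleton_iff.1 (e ▸ mem_top g)
        rw [(hg.zpow_right i).eq, mul_inv_cancel_right]
        exact zpow_mem (mem_zpowers r) i⟩
      have := hnormal2 _ hn (hRbp.to_le (zpowers_le.2 hr))
      exact zpowers_eq_bot.1 this
    let f : K →* K := MonoidHom.mk' (fun k => ⟨r * k * r⁻¹,
      (inferInstance : K.Normal).conj_mem k k.2 r⟩) (fun a b => Subtype.ext (by simp))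
    have hfp : MonoidHom.FixedPointFree f := by
      rintro ⟨k, hk⟩ he
      have he' : r * k * r⁻¹ = k := congrArg Subtype.val he
      refine Subtype.ext (hKdisj k hk ?_)
      rw [← hcent]
      exact mem_centralizer_singleton_iff.2 (mul_inv_eq_iff_eq_mul.1 he').symm
    have hii : Function.Involutive f := fun k => Subtype.ext (by
      show r * (r * k * r⁻¹) * r⁻¹ = k
      calc r * (r * k * r⁻¹) * r⁻¹ = (r * r) * k * (r * r)⁻¹ := by group
        _ = k := by rw [hrr]; group)
    intro k hk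
    have := congrFun (hfp.coe_eq_inv_of_involutive hii) ⟨k, hk⟩
    exact congrArg Subtype.val this
  set nL : L := ⟨n, hD.n_mem_normalizer⟩ with hnLdef
  have hnb : π nL ∈ Rb := ⟨nL, ⟨hD.near.mem, hD.n_mem_normalizer⟩, rfl⟩
  have hnb2 : π nL * π nL = 1 := by
    rw [← map_mul, hπ]
    exact hD.zc_le' hD.near.sq
  have hnb1 : π nL ≠ 1 := fun e => hD.notMem h ((hπ nL).1 e)
  obtain ⟨r, hr, hrr⟩ : ∃ r ∈ Rb, r * r ≠ 1 := by
    by_contra hh
    push Not at hh
    obtain ⟨r, hr, hr1, hrn⟩ : ∃ r ∈ Rb, r ≠ 1 ∧ r ≠ π nL := by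
      by_contra hall
      push Not at hall
      have hle : Rb ≤ zpowers (π nL) := fun a ha => by
        by_cases ha1 : a = 1
        · rw [ha1]; exact one_mem _
        · rw [hall a ha ha1]; exact mem_zpowers _
      have := card_le_of_le hle
      rw [hcardRb, Nat.card_zpowers] at this
      have := Nat.le_of_dvd two_pos (orderOf_dvd_of_pow_eq_one ((pow_two (π nL)).trans hnb2))
      omega
    have hp1 : r * π nL ≠ 1 := fun e => hrn (by
      calc r = r * (π nL * π nL) := by rw [hnb2, mul_one]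
        _ = π nL := by rw [← mul_assoc, e, one_mul])
    have e1 := hinv r hr (hh r hr) hr1 _ (inv_mem hxK)
    have e2 := hinv _ hnb hnb2 hnb1 _ hxK
    have e3 := hinv _ (mul_mem hr hnb) (hh _ (mul_mem hr hnb)) hp1 _ hxK
    have e4 : π xL = (π xL)⁻¹ := by
      rw [← e3]
      calc π xL = r * (π xL)⁻¹ * r⁻¹ := by rw [e1, inv_inv]
        _ = r * (π nL * π xL * (π nL)⁻¹) * r⁻¹ := by rw [e2]
        _ = _ := by group
    have e5 : π xL * π xL = 1 := by nth_rewrite 1 [e4]; group
    obtain ⟨i, hi⟩ := hxodd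
    have hd := orderOf_dvd_of_pow_eq_one ((pow_two (π xL)).trans e5)
    have := Nat.le_of_dvd two_pos hd
    exact hxne (orderOf_eq_one_iff.1 (by omega))
  have hr4 : orderOf r = 4 := by
    have hd : orderOf r ∣ 2 ^ 2 := by
      have := orderOf_dvd_natCard (⟨r, hr⟩ : Rb)
      rwa [hcardRb, orderOf_mk] at this
    obtain ⟨i, hi, hi'⟩ := (Nat.dvd_prime_pow Nat.prime_two).1 hd
    rcases (by omega : i = 0 ∨ i = 1 ∨ i = 2) with rfl | rfl | rfl
    · exact absurd (by rw [orderOf_eq_one_iff.1 hi', one_mul] : r * r = 1) hrr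
    · exact absurd (by rw [← pow_two, show 2 = orderOf r by rw [hi']; rfl, pow_orderOf_eq_one] : r * r = 1) hrr
    · exact hi'
  have hrn : r * r = π nL := by
    have hz : zpowers r = Rb := eq_of_le_of_card_ge (zpowers_le.2 hr)
      (by rw [Nat.card_zpowers, hr4, hcardRb])
    obtain ⟨i, hi⟩ := mem_zpowers_iff.1 (hz.symm.le hnb)
    have h2 : r ^ (i + i) = 1 := by rw [zpow_add, hi, hnb2]
    have h4 : ((4 : ℕ) : ℤ) ∣ i + i := hr4 ▸ orderOf_dvd_iff_zpow_eq_one.2 h2
    obtain ⟨j, rfl⟩ : (2 : ℤ) ∣ i := by push_cast at h4; omega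
    rcases Int.even_or_odd' j with ⟨l, rfl | rfl⟩
    · exfalso
      apply hnb1
      rw [← hi, show 2 * (2 * l) = ((4 : ℕ) : ℤ) * l by push_cast; ring, zpow_mul, zpow_natCast,
        ← hr4, pow_orderOf_eq_one, one_zpow]
    · rw [← hi, show 2 * (2 * l + 1) = ((4 : ℕ) : ℤ) * l + 2 by push_cast; ring, zpow_add,
        zpow_mul, zpow_natCast, ← hr4, pow_orderOf_eq_one, one_zpow, one_mul, zpow_two]
  obtain ⟨wL, hwR, rfl⟩ := hr
  set w : G := (wL : G) with hw
  have hwS : w ∈ (S : Subgroup G) := hwR.1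
  have hδ : n⁻¹ * (w * w) ∈ D := by
    refine (hπ (nL⁻¹ * (wL * wL))).1 ?_
    rw [map_mul, map_inv, map_mul, hrn, inv_mul_cancel]
  -- the conjugate of `x` under `w` commutes with `x` modulo `D`
  set y : L := wL⁻¹ * xL * wL with hy
  have hyK : π y ∈ K := by
    have h1 := (inferInstance : K.Normal).conj_mem _ hxK (π wL)⁻¹
    rwa [inv_inv, ← map_inv, ← map_mul, ← map_mul] at h1
  have hyc : (y : G) * x * (y : G)⁻¹ * x⁻¹ ∈ D := by
    refine (hπ (y * xL * y⁻¹ * xL⁻¹)).1 ?_
    have a1 := hinv _ hnb hnb2 hnb1 _ hyK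
    have a2 := hinv _ hnb hnb2 hnb1 _ hxK
    have a3 := hinv _ hnb hnb2 hnb1 _ (mul_mem hyK hxK)
    have hcm : π y * π xL = π xL * π y := by
      apply inv_injective
      rw [← a3, mul_inv_rev (π xL), ← a1, ← a2]
      group
    rw [map_mul, map_mul, map_mul, map_inv, map_inv, hcm]
    group
  set E' := E.map (MulAut.conj w).toMonoidHom with hE'
  have hx' : ∀ e ∈ E', x * e * x⁻¹ ∈ E' := by
    rintro _ ⟨e, he, rfl⟩
    refine ⟨_, hs.conj_mem_of_comm hD hx y.2 hyc he, ?_⟩
    have hyv : (y : G) = w⁻¹ * x * w := by simp [hy, hw, hxL]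
    simp only [MulEquiv.coe_toMonoidHom, MulAut.conj_apply]
    rw [hyv]
    group
  have hZE' : zc S ≤ E' := fun z hz => ⟨z, hs.zc_le' hz, by
    simp only [MulEquiv.coe_toMonoidHom, MulAut.conj_apply]
    rw [zc_comm hz hwS, mul_inv_cancel_right]⟩
  let f : zc S × zc S → (E ⊓ E' : Subgroup G) := fun p =>
    ⟨(p.1 : G) * (x * (p.2 : G) * x⁻¹),
      mul_mem (hs.zc_le' p.1.2) (hs.x_E _ (hs.zc_le' p.2.2)),
      mul_mem (hZE' p.1.2) (hx' _ (hZE' p.2.2))⟩
  have hf : Function.Injective f := by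
    rintro ⟨⟨a, ha⟩, ⟨b, hb⟩⟩ ⟨⟨a', ha'⟩, ⟨b', hb'⟩⟩ he
    have he' : a * (x * b * x⁻¹) = a' * (x * b' * x⁻¹) := congrArg Subtype.val he
    have hm : x * (b * b'⁻¹) * x⁻¹ ∈ zc S := by
      have : x * (b * b'⁻¹) * x⁻¹ = a⁻¹ * a' := by
        calc x * (b * b'⁻¹) * x⁻¹ = a⁻¹ * (a * (x * b * x⁻¹)) * (x * b' * x⁻¹)⁻¹ := by group
          _ = a⁻¹ * a' := by rw [he']; group
      rw [this]
      exact mul_mem (inv_mem ha) ha'
    have hbb : b = b' :=
      mul_inv_eq_one.1 (Datum.zc_inf_conj h hx.notMem (mul_mem hb (inv_mem hb')) hm)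
    subst hbb
    have := mul_right_cancel he'
    subst this
    rfl
  have hge := Nat.card_le_card_of_injective f hf
  rw [Nat.card_prod, ← hs.cardE] at hge
  have hinfE : E ⊓ E' = E := eq_of_le_of_card_ge inf_le_left hge
  have hEE' : E = E' := eq_of_le_of_card_ge (hinfE ▸ inf_le_right)
    (card_map_of_injective (MulAut.conj w).injective).le
  obtain ⟨z, hz, hzo⟩ := exists_involution h
  obtain ⟨e, he, hez⟩ := hs.surj z hz
  apply (fun e => by simp [e] at hzo : z ≠ 1)
  rw [← hez]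
  have he' : w * e * w⁻¹ ∈ E := hEE'.symm ▸ (⟨e, he, rfl⟩ : w * e * w⁻¹ ∈ E')
  set k := w * e * w⁻¹ * e⁻¹ with hk
  have hkE : k ∈ E := mul_mem he' (inv_mem he)
  have heS : e ∈ (S : Subgroup G) := hD.le (hs.E_le he)
  have hkZ : k ∈ zc S := by
    refine hs.ker k hkE ?_
    rw [hk, hD.near.phi_mul (mul_mem (mul_mem hwS heS) (inv_mem hwS)) (inv_mem heS),
      hD.near.phi_conj hwS heS, hD.near.phi_inv heS, hD.near.phi_sq heS]
  have hww : (w * w) * e * (w * w)⁻¹ = e := by
    calc (w * w) * e * (w * w)⁻¹ = w * k * w⁻¹ * (k * e) := by rw [hk]; group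
      _ = k * (k * e) := by rw [zc_comm hkZ hwS, mul_inv_cancel_right]
      _ = e := by rw [← mul_assoc, hs.E_sq k hkE, one_mul]
  rw [phi_eq_one_iff]
  have hδe := hD.comm_cent (hs.E_cent he) hδ
  calc n * e = (w * w) * e * (n⁻¹ * (w * w))⁻¹ := by
        rw [show (w * w) = n * (n⁻¹ * (w * w)) by group, mul_assoc n _ e, hδe]; group
    _ = ((w * w) * e * (w * w)⁻¹) * n := by group
    _ = e * n := by rw [hww]

/-- `S ∩ N(D) = D ∪ D n`. -/
theorem sylowPart_cases (h : Setup S) (hD : Datum S n D x0 d0) (hx : Odd2 S n D x)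
    (hs : Split S n D x C E) :
    Nat.card ((S : Subgroup G) ⊓ normalizer (D : Set G) : Subgroup G) = 2 * Nat.card D ∧
      ∀ r ∈ (S : Subgroup G) ⊓ normalizer (D : Set G), r ∈ D ∨ r * n⁻¹ ∈ D := by
  haveI : Fact (Nat.Prime 2) := ⟨Nat.prime_two⟩
  set L := normalizer (D : Set G) with hL
  set R := (S : Subgroup G) ⊓ L with hRdef
  have hRp : IsPGroup 2 R := S.2.to_le inf_le_left
  have hlt : D < R := hD.lt_sylowPart h
  obtain ⟨d, hd⟩ := IsPGroup.iff_card.1 (hRp.to_le hlt.le)
  obtain ⟨b, hb⟩ := IsPGroup.iff_card.1 hRp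
  have hrel : Nat.card D * D.relIndex R = Nat.card R := by
    rw [relIndex, ← Nat.card_congr (subgroupOfEquivOfLe hlt.le).toEquiv]
    exact card_mul_index _
  have hTR := tower_of_card b R hb
  have hb6 := h.height_le ((hTR.step hD.sylowPart_lt).step (hD.normalizer_lt_top h))
  have hcard : Nat.card R = 2 * Nat.card D := by
    refine le_antisymm ?_ (two_mul_card_le hRp hlt)
    by_contra hh
    rw [hb, hd, ← pow_succ'] at hh
    have hdb : d + 2 ≤ b := by
      by_contra h2
      exact hh (Nat.pow_le_pow_right two_pos (by omega))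
    have hrelpow : D.relIndex R = 2 ^ (b - d) := by
      rw [hd, hb, show b = d + (b - d) by omega, pow_add] at hrel
      exact Nat.eq_of_mul_eq_mul_left (Nat.two_pow_pos d) hrel
    rcases Nat.lt_or_ge d 4 with hd4 | hd4
    · refine index_sylowPart_small h hD hx hs ?_ ?_
      · rw [hd]
        exact Nat.pow_le_pow_right two_pos (show d ≤ 3 by omega)
      · rw [← hL, ← hRdef, hrelpow]
        exact pow_dvd_pow 2 (show 2 ≤ b - d by omega)
    · refine index_sylowPart_four h hD hx hs ?_ ?_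
      · rw [← hL, ← hRdef, hrelpow, show b - d = 2 by omega]
        rfl
      · intro M hM1 hM2
        by_contra hne
        have := h.height_le (((hTR.step hM1).step (lt_of_le_of_ne hM2 hne)).step
          (hD.normalizer_lt_top h))
        omega
  refine ⟨hcard, fun r hr => ?_⟩
  let U : Subgroup G :=
    { carrier := {r | r ∈ L ∧ (r ∈ D ∨ r * n⁻¹ ∈ D)}
      one_mem' := ⟨one_mem _, Or.inl (one_mem _)⟩
      mul_mem' := by
        rintro a c ⟨ha, ha'⟩ ⟨hc, hc'⟩
        refine ⟨mul_mem ha hc, ?_⟩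
        rcases ha' with ha' | ha' <;> rcases hc' with hc' | hc'
        · exact Or.inl (mul_mem ha' hc')
        · exact Or.inr (by rw [mul_assoc]; exact mul_mem ha' hc')
        · refine Or.inr ?_
          rw [show a * c * n⁻¹ = (a * n⁻¹) * (n * c * n⁻¹) by group]
          exact mul_mem ha' (hD.conj_mem hD.n_mem_normalizer hc')
        · refine Or.inl ?_
          rw [show a * c = (a * n⁻¹) * (n * (c * n⁻¹) * n⁻¹) * (n * n) by group]
          exact mul_mem (mul_mem ha' (hD.conj_mem hD.n_mem_normalizer hc'))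
            (hD.zc_le' hD.near.sq)
      inv_mem' := by
        rintro a ⟨ha, ha'⟩
        refine ⟨inv_mem ha, ?_⟩
        rcases ha' with ha' | ha'
        · exact Or.inl (inv_mem ha')
        · refine Or.inr ?_
          rw [show a⁻¹ * n⁻¹ = (n⁻¹ * (a * n⁻¹)⁻¹ * n) * (n * n)⁻¹ by group]
          exact mul_mem (hD.conj_mem' hD.n_mem_normalizer (inv_mem ha'))
            (inv_mem (hD.zc_le' hD.near.sq)) }
  have hnU : n ∈ U := ⟨hD.n_mem_normalizer, Or.inr (by rw [mul_inv_cancel]; exact one_mem _)⟩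
  have h1 : D ⊔ zpowers n ≤ R := sup_le hlt.le (zpowers_le.2 ⟨hD.near.mem, hD.n_mem_normalizer⟩)
  have h2 := two_mul_card_le (hRp.to_le h1) (lt_of_le_of_ne (le_sup_left : D ≤ D ⊔ zpowers n)
    fun e => hD.notMem h (e.symm.le (mem_sup_right (mem_zpowers n))))
  have h3 : D ⊔ zpowers n = R := eq_of_le_of_card_ge h1 (by omega)
  have h4 : D ⊔ zpowers n ≤ U :=
    sup_le (fun a ha => ⟨le_normalizer ha, Or.inl ha⟩) (zpowers_le.2 hnU)
  exact (h4 (h3.symm.le hr)).2

end Cfsg.Agent.SylowMaxTwo
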