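import Cfsg.Agent.Lib.SylowMaxTwo.PartB

/-!
# No element is central modulo the centre in the way required by `Near`
-/

set_option autoImplicit false
set_option linter.style.haveILetI false
set_option linter.unusedSectionVars false
set_option linter.unusedVariables false

namespace Cfsg.Agent.SylowMaxTwo

open Subgroup

variable {G : Type*} [Group G] [Finite G] [IsSimpleGroup G]

variable {S : Sylow 2 G} {n : G}

theorem Near.false (h : Setup S) (hn : Near S n) : False := by
  haveI : Fact (Nat.Prime 2) := ⟨Nat.prime_two⟩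
  obtain ⟨D, x0, d0, hD⟩ := exists_datum h hn
  obtain ⟨x, hx⟩ := hD.exists_odd h
  obtain ⟨C, E, hs⟩ := hx.exists_split h hD
  obtain ⟨hcard, hcases⟩ := sylowPart_cases h hD hx hs
  set L := normalizer (D : Set G) with hL
  set R := (S : Subgroup G) ⊓ L with hR
  have hSR : R < (S : Subgroup G) := by
    refine lt_of_le_of_ne inf_le_left fun e => hD.x0_notMem ?_
    have hSL : (S : Subgroup G) ≤ L := e.symm.le.trans inf_le_right
    have := h.eq_of_le hSL (hD.normalizer_lt_top h).ne
    exact this.le hD.x0_mem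
  obtain ⟨s, ⟨hsS, hsN⟩, hsR⟩ := SetLike.exists_of_lt (Transfer.lt_inf_normalizer_of_lt S.2 hSR)
  set D2 := D.map (MulAut.conj s).toMonoidHom with hD2
  have hD2mem : ∀ a, a ∈ D2 ↔ s⁻¹ * a * s ∈ D := by
    intro a
    constructor
    · rintro ⟨d, hd, rfl⟩
      simpa [mul_assoc] using hd
    · intro ha
      exact ⟨_, ha, by simp [mul_assoc]⟩
  have hD2R : D2 ≤ R := by
    rintro _ ⟨d, hd, rfl⟩
    exact (mem_normalizer_iff.1 hsN d).1 ((hD.lt_sylowPart h).le hd)
  have hD2card : Nat.card D2 = Nat.card D := card_map_of_injective (MulAut.conj s).injective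
  obtain ⟨y, hy2, hyD⟩ : ∃ y ∈ D2, y ∉ D := by
    by_contra hh
    push Not at hh
    apply hsR
    refine ⟨hsS, Transfer.mem_normalizer_of_conj_mem fun d hd => hh _ ⟨d, hd, by simp⟩⟩
  have hA : ∀ e ∈ E, ∀ b ∈ D2, b * (s * e * s⁻¹) = (s * e * s⁻¹) * b := by
    intro e he b hb
    have h1 := hD.comm_cent (hs.E_cent he) ((hD2mem b).1 hb)
    calc b * (s * e * s⁻¹) = s * ((s⁻¹ * b * s) * e) * s⁻¹ := by group
      _ = s * (e * (s⁻¹ * b * s)) * s⁻¹ := by rw [h1]
      _ = (s * e * s⁻¹) * b := by group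
  obtain ⟨z, hz, hzo⟩ := exists_involution h
  have hz1 : z ≠ 1 := fun e => by simp [e] at hzo
  obtain ⟨e0, he0, hphi⟩ := hs.surj z hz
  have he0S : e0 ∈ (S : Subgroup G) := hD.le (hs.E_le he0)
  set a0 := s * e0 * s⁻¹ with ha0
  have ha0D2 : a0 ∈ D2 := ⟨e0, hs.E_le he0, by simp [ha0]⟩
  have hphia : phi n a0 = z := by rw [ha0, hn.phi_conj hsS he0S, hphi]
  have ha0D : a0 ∉ D := by
    intro haD
    have hc := hA e0 he0 y hy2
    set d := y * n⁻¹ with hd
    have hdD : d ∈ D := (hcases y (hD2R hy2)).resolve_left hyD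
    have e1 : phi n a0 = d⁻¹ * a0 * d * a0⁻¹ := by
      calc phi n a0 = d⁻¹ * (y * a0) * n⁻¹ * a0⁻¹ := by rw [phi, hd]; group
        _ = d⁻¹ * (a0 * y) * n⁻¹ * a0⁻¹ := by rw [hc]
        _ = d⁻¹ * a0 * d * a0⁻¹ := by rw [hd]; group
    have h2 : phi n a0 ∈ C := by
      rw [e1]
      simpa using hs.comm d⁻¹ (inv_mem hdD) a0 haD
    exact hz1 (hphia.symm.trans (hs.C_zc _ h2 (hn.phi_mem (hD.le haD))))
  set d := a0 * n⁻¹ with hd
  have hdD : d ∈ D := (hcases a0 (hD2R ha0D2)).resolve_left ha0D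
  have hED2 : ∀ e ∈ E, e ∈ D2 → e ∈ zc S := by
    intro e he he2
    refine hs.ker e he (phi_eq_one_iff.2 ?_)
    have h1 : d * e = e * d := hD.comm_cent (hs.E_cent he) hdD
    have h2 : e * a0 = a0 * e := hA e0 he0 e he2
    calc n * e = d⁻¹ * (a0 * e) := by rw [hd]; group
      _ = d⁻¹ * (e * a0) := by rw [h2]
      _ = d⁻¹ * (e * d) * n := by rw [hd]; group
      _ = e * n := by rw [← h1]; group
  have hrel2 : (D2.subgroupOf R).index = 2 := by
    have h1 := (D2.subgroupOf R).card_mul_index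
    rw [Nat.card_congr (subgroupOfEquivOfLe hD2R).toEquiv, hD2card, hcard, mul_comm 2] at h1
    exact Nat.eq_of_mul_eq_mul_left Nat.card_pos h1
  have hER : E ≤ R := hs.E_le.trans (hD.lt_sylowPart h).le
  have hZ2 : Nat.card (zc S) ≤ 2 := by
    by_contra hh
    have hcov : ∀ e ∈ E, e ∈ zc S ∨ e * e0 ∈ zc S := by
      intro e he
      by_cases hez : e ∈ zc S
      · exact Or.inl hez
      right
      have h1 : (⟨e, hER he⟩ : R) ∉ D2.subgroupOf R := fun hh => hez (hED2 e he hh)
      have h2 : (⟨e0, hER he0⟩ : R) ∉ D2.subgroupOf R := fun hh =>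
        hz1 (hphi.symm.trans (hn.phi_eq_one_of_zc (hED2 e0 he0 hh)))
      refine hED2 _ (mul_mem he he0) ?_
      have : (⟨e, hER he⟩ : R) * ⟨e0, hER he0⟩ ∈ D2.subgroupOf R :=
        (mul_mem_iff_of_index_two hrel2).2 ⟨fun hh => absurd hh h1, fun hh => absurd hh h2⟩
      exact this
    let f : zc S ⊕ zc S → E := Sum.elim (fun a => ⟨a, hs.zc_le' a.2⟩)
      (fun a => ⟨a * e0, mul_mem (hs.zc_le' a.2) he0⟩)
    have hf : Function.Surjective f := by
      rintro ⟨e, he⟩
      rcases hcov e he with h1 | h1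
      · exact ⟨Sum.inl ⟨e, h1⟩, rfl⟩
      · refine ⟨Sum.inr ⟨e * e0, h1⟩, Subtype.ext ?_⟩
        show e * e0 * e0 = e
        rw [mul_assoc, hs.E_sq e0 he0, mul_one]
    have h1 := Nat.card_le_card_of_surjective f hf
    rw [Nat.card_sum, hs.cardE] at h1
    have := Nat.mul_le_mul_right (Nat.card (zc S)) (not_le.1 hh)
    omega
  have hnn : n * n = 1 := by
    classical
    refine hn.sq_one fun a ha b hb ha1 hb1 => ?_
    by_contra hab
    haveI := Fintype.ofFinite G
    have h3 : 3 ≤ Nat.card (zc S) := by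
      rw [Nat.card_eq_fintype_card, Fintype.card_subtype]
      refine le_trans (le_of_eq ?_) (Finset.card_le_card (s := {1, a, b}) ?_)
      · rw [Finset.card_insert_of_notMem (by simp [ha1.symm, hb1.symm]), Finset.card_pair hab]
      · intro w hw
        simp only [Finset.mem_insert, Finset.mem_singleton] at hw
        simp only [Finset.mem_filter, Finset.mem_univ, true_and]
        rcases hw with rfl | rfl | rfl
        · exact one_mem _
        · exact ha
        · exact hb
    omega
  have hphid : phi n d = z := by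
    have h1 : phi n (d * n) = phi n d := by
      rw [hn.phi_mul (hD.le hdD) hn.mem, phi_self, mul_one]
    rw [← h1, hd, inv_mul_cancel_right, hphia]
  clear_value d
  have hdd : d * d = z := by
    have haa : a0 * a0 = 1 := by
      calc a0 * a0 = s * (e0 * e0) * s⁻¹ := by rw [ha0]; group
        _ = 1 := by rw [hs.E_sq e0 he0]; group
    have hzd : d * z = z * d := zc_comm hz (hD.le hdD)
    have hzz : z * z = 1 := by rw [← pow_two, ← hzo, pow_orderOf_eq_one]
    have h2 : z * (d * d) = 1 := by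
      calc z * (d * d) = (z * d) * d := by rw [mul_assoc]
        _ = d * (z * d) * 1 := by rw [mul_one, ← mul_assoc, hzd]
        _ = d * (phi n d * d) * (n * n) := by rw [hphid, hnn]
        _ = (d * n) * (d * n) := by rw [phi_mul_self]; group
        _ = a0 * a0 := by rw [hd]; group
        _ = 1 := haa
    calc d * d = z * (z * (d * d)) := by rw [← mul_assoc z z, hzz, one_mul]
      _ = z := by rw [h2, mul_one]
  obtain ⟨c, hc, e, he, hce⟩ := hs.decomp d hdD
  have hzC : z ∈ C := by
    have hec : c * e = e * c := hD.comm_cent (hs.E_cent he) (hs.C_le hc)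
    have : z = c * c := by
      rw [← hdd, hce]
      calc c * e * (c * e) = c * (e * c) * e := by group
        _ = c * c * (e * e) := by rw [← hec]; group
        _ = c * c := by rw [hs.E_sq e he, mul_one]
    rw [this]
    exact mul_mem hc hc
  exact hz1 (hs.C_zc z hzC hz)

end Cfsg.Agent.SylowMaxTwo
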