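import Cfsg.Agent.Lib.SylowMaxTwo.PartA
import Cfsg.Agent.Lib.Involution.BaerSuzuki

/-!
# The element `x` of odd order and the decomposition `D = C × E`
-/

set_option autoImplicit false
set_option linter.style.haveILetI false
set_option linter.unusedSectionVars false
set_option linter.unusedVariables false

namespace Cfsg.Agent.SylowMaxTwo

open Subgroup

variable {G : Type*} [Group G]

variable {S : Sylow 2 G} {n : G} {D : Subgroup G} {x0 d0 : G}

/-- An element of odd order inverted by `n` modulo `D`. -/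
structure Odd2 (S : Sylow 2 G) (n : G) (D : Subgroup G) (x : G) : Prop where
  mem : x ∈ normalizer (D : Set G)
  notMem : x ∉ (S : Subgroup G)
  odd : Odd (orderOf x)
  inv : n * x * n⁻¹ * x ∈ D
  gen : ∃ g ∈ normalizer (D : Set G), ∃ k : ℕ, x = (n * (g * n * g⁻¹)) ^ k

/-- The decomposition `D = C × E` attached to `x`. -/
structure Split (S : Sylow 2 G) (n : G) (D : Subgroup G) (x : G) (C E : Subgroup G) : Prop where
  C_le : C ≤ D
  E_le : E ≤ D
  E_cent : E ≤ centralizer (D : Set G)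
  E_sq : ∀ e ∈ E, e * e = 1
  C_x : ∀ c ∈ C, x * c = c * x
  decomp : ∀ d ∈ D, ∃ c ∈ C, ∃ e ∈ E, d = c * e
  disj : ∀ e ∈ E, e ∈ C → e = 1
  comm : ∀ a ∈ D, ∀ b ∈ D, a * b * a⁻¹ * b⁻¹ ∈ C
  C_n : ∀ c ∈ C, phi n c = 1
  C_zc : ∀ c ∈ C, c ∈ zc S → c = 1
  ker : ∀ e ∈ E, phi n e = 1 → e ∈ zc S
  zc_le' : zc S ≤ E
  surj : ∀ z ∈ zc S, ∃ e ∈ E, phi n e = z
  cardE : Nat.card E = Nat.card (zc S) * Nat.card (zc S)
  x_E : ∀ e ∈ E, x * e * x⁻¹ ∈ E
  fpf : ∀ e ∈ E, x * e * x⁻¹ = e → e = 1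
  E_eq : ∀ e ∈ E, ∃ e1 ∈ E, e = e1⁻¹ * (x * e1 * x⁻¹)

variable [Finite G] [IsSimpleGroup G]

theorem Datum.exists_odd (h : Setup S) (hD : Datum S n D x0 d0) : ∃ x, Odd2 S n D x := by
  haveI : Fact (Nat.Prime 2) := ⟨Nat.prime_two⟩
  set L := normalizer (D : Set G) with hL
  set D' : Subgroup L := D.subgroupOf L with hD'
  haveI : D'.Normal := normal_in_normalizer
  let π := QuotientGroup.mk' D'
  have hπ : ∀ a : L, π a = 1 ↔ (a : G) ∈ D := fun a => QuotientGroup.eq_one_iff a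
  set nL : L := ⟨n, hD.n_mem_normalizer⟩ with hnL
  have hn1 : π nL * π nL = 1 := by
    rw [← map_mul, hπ]
    exact hD.zc_le' hD.near.sq
  have hD'p : IsPGroup 2 π.ker := by
    rw [QuotientGroup.ker_mk']
    exact (S.2.to_le hD.le).comap_subtype
  obtain ⟨g, hg⟩ : ∃ g : L ⧸ D',
      ¬ IsPGroup 2 (closure ({π nL, g * π nL * g⁻¹} : Set (L ⧸ D'))) := by
    by_contra hh
    push Not at hh
    have hp := Involution.baer_suzuki (π nL) hh
    set N' := (normalClosure ({π nL} : Set (L ⧸ D'))).comap π with hN'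
    apply hD.notMem h
    refine hD.radical (N'.map L.subtype) (map_subtype_le _)
      ((hp.comap_of_ker_isPGroup π hD'p).map _) ?_ ⟨nL, ?_, rfl⟩
    · intro y hy
      refine Transfer.mem_normalizer_of_conj_mem ?_
      rintro _ ⟨a, ha, rfl⟩
      exact ⟨⟨y, hy⟩ * a * ⟨y, hy⟩⁻¹,
        (inferInstance : N'.Normal).conj_mem a ha ⟨y, hy⟩, rfl⟩
    · exact subset_normalClosure (Set.mem_singleton _)
  obtain ⟨g, rfl⟩ := QuotientGroup.mk'_surjective D' g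
  set u : L := nL * (g * nL * g⁻¹) with hu
  set s := π nL
  set t := π g * s * (π g)⁻¹ with ht
  have htt : t * t = 1 := by
    calc t * t = π g * (s * s) * (π g)⁻¹ := by rw [ht]; group
      _ = 1 := by rw [hn1]; group
  have hπu : π u = s * t := by rw [hu, map_mul, map_mul, map_mul, map_inv]
  obtain ⟨k, r, hr, he⟩ := Nat.exists_eq_two_pow_mul_odd (orderOf_pos u).ne'
  set x := u ^ 2 ^ k with hx
  have hxr : x ^ r = 1 := by rw [hx, ← pow_mul, ← he, pow_orderOf_eq_one]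
  have hxo : Odd (orderOf x) := hr.of_dvd_nat (orderOf_dvd_of_pow_eq_one hxr)
  have hxD : (x : G) ∉ D := by
    intro hxD
    apply hg
    have h1 : (s * t) ^ 2 ^ k = 1 := by rw [← hπu, ← map_pow]; exact (hπ x).2 hxD
    exact Involution.isPGroup_closure_pair hn1 htt h1
  refine ⟨x, x.2, ?_, by rwa [orderOf_coe], ?_, g, g.2, 2 ^ k, by simp [hx, hu, hnL]⟩
  · intro hxS
    obtain ⟨i, hi⟩ := IsPGroup.iff_orderOf.1 S.2 ⟨x, hxS⟩
    rw [orderOf_mk, orderOf_coe] at hi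
    rw [hi] at hxo
    rcases Nat.eq_zero_or_pos i with rfl | hi0
    · rw [pow_zero, orderOf_eq_one_iff] at hi
      exact hxD (hi ▸ one_mem D)
    · exact absurd hxo (Nat.not_odd_iff_even.2 (Nat.even_pow.2 ⟨even_two, hi0.ne'⟩))
  · have h1 : s * (s * t) * s⁻¹ = (s * t)⁻¹ := by
      rw [mul_inv_rev, inv_eq_of_mul_eq_one_right htt, inv_eq_of_mul_eq_one_right hn1,
        ← mul_assoc, hn1, one_mul]
    have h2 : π (nL * x * nL⁻¹ * x) = 1 := by
      rw [map_mul, map_mul, map_mul, map_inv, hx, map_pow, hπu, ← conj_pow, h1, inv_pow,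
        inv_mul_cancel]
    exact (hπ _).1 h2

/-- A bound on the order of a join of two commuting subgroups. -/
theorem card_sup_le {T T' : Subgroup G} (hc : ∀ a ∈ T, ∀ b ∈ T', a * b = b * a) :
    Nat.card (T ⊔ T' : Subgroup G) ≤ Nat.card T * Nat.card T' := by
  have hn : T' ≤ normalizer (T : Set G) :=
    le_trans (fun b hb => mem_centralizer_iff.2 fun a ha => hc a ha b hb)
      (centralizer_le_normalizer _)
  rw [← Nat.card_prod]
  refine Nat.card_le_card_of_surjective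
    (fun p : T × T' => (⟨p.1 * p.2, mul_mem (mem_sup_left p.1.2) (mem_sup_right p.2.2)⟩ :
      (T ⊔ T' : Subgroup G))) ?_
  rintro ⟨w, hw⟩
  have hw' := hw
  rw [← SetLike.mem_coe, coe_mul_of_right_le_normalizer_left T T' hn] at hw'
  obtain ⟨a, ha, b, hb, hab⟩ := Set.mem_mul.1 hw'
  exact ⟨(⟨a, ha⟩, ⟨b, hb⟩), Subtype.ext hab⟩

theorem Odd2.pow_orderOf {x : G} (hx : Odd2 S n D x) {y : G} (hy : y * y = 1)
    (h : y ^ orderOf x = 1) : y = 1 := by
  obtain ⟨r, hr⟩ := hx.odd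
  rw [hr, pow_succ, pow_mul, pow_two, hy, one_pow, one_mul] at h
  exact h

theorem Odd2.exists_split (h : Setup S) (hD : Datum S n D x0 d0) {x : G} (hx : Odd2 S n D x) :
    ∃ C E, Split S n D x C E := by
  classical
  have hxL := hx.mem
  set L := normalizer (D : Set G) with hL
  obtain ⟨g, hg, k, hk⟩ := hx.gen
  have hn := hD.near
  have hnL := hD.n_mem_normalizer
  let V : Subgroup G :=
    { carrier := {v | v ∈ centralizer (D : Set G) ∧ v * v = 1}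
      one_mem' := ⟨one_mem _, one_mul 1⟩
      mul_mem' := fun {a b} ha hb => ⟨mul_mem ha.1 hb.1, by
        rw [(show Commute b a from hD.comm_cent ha.1 (hD.cent hb.1)).mul_mul_mul_comm, ha.2, hb.2,
          one_mul]⟩
      inv_mem' := fun {a} ha => ⟨inv_mem ha.1, by rw [← mul_inv_rev, ha.2, inv_one]⟩ }
  let Φ : D →* G := MonoidHom.mk' (fun d => phi n d)
    (fun a b => by simpa using hn.phi_mul (hD.le a.2) (hD.le b.2))
  set T := Φ.range with hT
  have hTmem : ∀ d ∈ D, phi n d ∈ T := fun d hd => ⟨⟨d, hd⟩, rfl⟩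
  have hTZ : T ≤ zc S := by
    rintro _ ⟨d, rfl⟩
    exact hn.phi_mem (hD.le d.2)
  have hTV : T ≤ V := by
    rintro _ ⟨d, rfl⟩
    exact ⟨hD.zc_le_cent (hn.phi_mem (hD.le d.2)), hn.phi_sq (hD.le d.2)⟩
  set T' := T.map (MulAut.conj g).toMonoidHom with hT'
  have hT'V : T' ≤ V := by
    rintro _ ⟨a, ha, rfl⟩
    obtain ⟨h1, h2⟩ := hTV ha
    refine ⟨by simpa using hD.conj_cent hg h1, ?_⟩
    rw [← map_mul, h2, map_one]
  set W := T ⊔ T' with hW
  have hWV : W ≤ V := sup_le hTV hT'V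
  have hWD : W ≤ D := fun w hw => hD.cent (hWV hw).1
  have hWc : ∀ w ∈ W, ∀ d ∈ D, d * w = w * d := fun w hw d hd => hD.comm_cent (hWV hw).1 hd
  let K0 : Subgroup G :=
    { carrier := {y | y ∈ L ∧ ∀ d ∈ D, d⁻¹ * (y * d * y⁻¹) ∈ W}
      one_mem' := ⟨one_mem _, fun d _ => by simp⟩
      mul_mem' := by
        rintro a b ⟨ha, ha'⟩ ⟨hb, hb'⟩
        refine ⟨mul_mem ha hb, fun d hd => ?_⟩
        have h1 := hb' d hd
        have h2 := ha' _ (hWD h1)
        have h3 := mul_mem (ha' d hd) (mul_mem h1 h2)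
        convert h3 using 1
        group
      inv_mem' := by
        rintro y ⟨hy, hy'⟩
        refine ⟨inv_mem hy, fun d hd => ?_⟩
        have he : y⁻¹ * d * y ∈ D := hD.conj_mem' hy hd
        have h1 := inv_mem (hy' _ he)
        convert h1 using 1
        group }
  have hnK : n ∈ K0 := ⟨hnL, fun d hd => by
    have h1 : d⁻¹ * (n * d * n⁻¹) = d⁻¹ * (phi n d * d) := by rw [phi_mul_self]
    rw [h1, ← hWc _ (mem_sup_left (hTmem d hd)) d hd, inv_mul_cancel_left]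
    exact mem_sup_left (hTmem d hd)⟩
  have hn'K : g * n * g⁻¹ ∈ K0 := ⟨mul_mem (mul_mem hg hnL) (inv_mem hg), fun d hd => by
    set e := g⁻¹ * d * g with he
    have heD : e ∈ D := hD.conj_mem' hg hd
    have h1 : d⁻¹ * (g * n * g⁻¹ * d * (g * n * g⁻¹)⁻¹) = g * phi n e * g⁻¹ := by
      have : e⁻¹ * (phi n e * e) = phi n e := by
        rw [← zc_comm (hn.phi_mem (hD.le heD)) (hD.le heD), inv_mul_cancel_left]
      rw [← this, phi_mul_self, he]
      group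
    rw [h1]
    exact mem_sup_right ⟨_, hTmem e heD, rfl⟩⟩
  have hxK : x ∈ K0 := by
    rw [hk]
    exact pow_mem (mul_mem hnK hn'K) _
  let κ : D →* G := MonoidHom.mk' (fun d => (d : G)⁻¹ * (x * d * x⁻¹)) (fun a b => by
    have h2 := hWc _ (hxK.2 a a.2) (b : G)⁻¹ (inv_mem b.2)
    calc ((a * b : D) : G)⁻¹ * (x * (a * b : D) * x⁻¹)
        = (b : G)⁻¹ * ((a : G)⁻¹ * (x * a * x⁻¹)) * (x * b * x⁻¹) := by push_cast; group
      _ = ((a : G)⁻¹ * (x * a * x⁻¹)) * (b : G)⁻¹ * (x * b * x⁻¹) := by rw [h2]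
      _ = _ := by group)
  set E := κ.range with hE
  set C := D ⊓ centralizer ({x} : Set G) with hC
  have hEW : E ≤ W := by
    rintro _ ⟨d, rfl⟩
    exact hxK.2 d d.2
  have hED : E ≤ D := hEW.trans hWD
  have hκ : ∀ d, ∀ hd : d ∈ D, (κ ⟨d, hd⟩ = 1 ↔ d ∈ C) := by
    intro d hd
    show d⁻¹ * (x * d * x⁻¹) = 1 ↔ _
    rw [inv_mul_eq_one, eq_mul_inv_iff_mul_eq]
    exact ⟨fun e => ⟨hd, mem_centralizer_singleton_iff.2 e⟩,
      fun e => mem_centralizer_singleton_iff.1 e.2⟩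
  have hEC : ∀ e ∈ E, e ∈ C → e = 1 := by
    rintro e ⟨⟨d, hd⟩, rfl⟩ heC
    set e := κ ⟨d, hd⟩ with he
    have hxe : x * e = e * x := (mem_centralizer_singleton_iff.1 heC.2).symm
    have heW : e ∈ W := hxK.2 d hd
    refine hx.pow_orderOf (hWV heW).2 ?_
    have hpow : ∀ i : ℕ, x ^ i * d * (x ^ i)⁻¹ = d * e ^ i := by
      intro i
      induction i with
      | zero => simp
      | succ i ih =>
        have hde : x * d * x⁻¹ = d * e := by rw [he]; simp [κ]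
        have hxe' : x * e ^ i * x⁻¹ = e ^ i := by
          rw [((show Commute x e from hxe).pow_right i).eq, mul_inv_cancel_right]
        calc x ^ (i + 1) * d * (x ^ (i + 1))⁻¹ = x * (x ^ i * d * (x ^ i)⁻¹) * x⁻¹ := by
              rw [pow_succ']; group
          _ = (x * d * x⁻¹) * (x * e ^ i * x⁻¹) := by rw [ih]; group
          _ = d * e ^ (i + 1) := by rw [hde, hxe', mul_assoc, ← pow_succ']
    have := hpow (orderOf x)
    rw [pow_orderOf_eq_one, inv_one, one_mul, mul_one, left_eq_mul] at this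
    exact this
  have hdec : ∀ d ∈ D, ∃ c ∈ C, ∃ e ∈ E, d = c * e := by
    intro d hd
    let f : E → E := fun e => ⟨κ ⟨e, hED e.2⟩, ⟨⟨e, hED e.2⟩, rfl⟩⟩
    have hf : Function.Injective f := by
      intro a b hab
      have hab' : κ ⟨a, hED a.2⟩ = κ ⟨b, hED b.2⟩ := congrArg Subtype.val hab
      have h1 : κ ⟨(a : G) * (b : G)⁻¹, mul_mem (hED a.2) (inv_mem (hED b.2))⟩ = 1 := by
        rw [show (⟨(a : G) * (b : G)⁻¹, mul_mem (hED a.2) (inv_mem (hED b.2))⟩ : D) =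
          ⟨a, hED a.2⟩ * (⟨b, hED b.2⟩)⁻¹ from rfl, map_mul, map_inv, hab', mul_inv_cancel]
      exact Subtype.ext (mul_inv_eq_one.1
        (hEC _ (mul_mem a.2 (inv_mem b.2)) ((hκ _ _).1 h1)))
    obtain ⟨e, he⟩ := Finite.surjective_of_injective hf ⟨κ ⟨d, hd⟩, ⟨_, rfl⟩⟩
    have he' : κ ⟨e, hED e.2⟩ = κ ⟨d, hd⟩ := congrArg Subtype.val he
    refine ⟨d * (e : G)⁻¹, ?_, e, e.2, by group⟩
    refine (hκ _ (mul_mem hd (inv_mem (hED e.2)))).1 ?_
    rw [show (⟨d * (e : G)⁻¹, mul_mem hd (inv_mem (hED e.2))⟩ : D) =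
      ⟨d, hd⟩ * (⟨e, hED e.2⟩)⁻¹ from rfl, map_mul, map_inv, he', mul_inv_cancel]
  have hcomm : ∀ a ∈ D, ∀ b ∈ D, a * b * a⁻¹ * b⁻¹ ∈ C := by
    intro a ha b hb
    refine (hκ _ (mul_mem (mul_mem (mul_mem ha hb) (inv_mem ha)) (inv_mem hb))).1 ?_
    rw [show (⟨a * b * a⁻¹ * b⁻¹,
      mul_mem (mul_mem (mul_mem ha hb) (inv_mem ha)) (inv_mem hb)⟩ : D) =
      ⟨a, ha⟩ * ⟨b, hb⟩ * (⟨a, ha⟩)⁻¹ * (⟨b, hb⟩)⁻¹ from rfl, map_mul, map_mul, map_mul,
      map_inv, map_inv]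
    have hc : κ ⟨b, hb⟩ * κ ⟨a, ha⟩ = κ ⟨a, ha⟩ * κ ⟨b, hb⟩ :=
      hWc _ (hxK.2 a ha) _ (hWD (hxK.2 b hb))
    rw [← hc]
    group
  have hCZ : ∀ c ∈ C, c ∈ zc S → c = 1 := by
    intro c hc hcz
    by_contra hc1
    refine hx.notMem ?_
    rw [← h.centralizer_eq hcz hc1]
    exact mem_centralizer_singleton_iff.2 (mem_centralizer_singleton_iff.1 hc.2).symm
  have hxi : n * x * n⁻¹ * x ∈ D := hx.inv
  set δ := x * (n * x * n⁻¹) with hδdef
  have hδ : δ ∈ D := by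
    have := hD.conj_mem hxL hxi
    convert this using 1
    rw [hδdef]; group
  have hnx : n * x * n⁻¹ = x⁻¹ * δ := by rw [hδdef]; group
  have hCn : ∀ c ∈ C, phi n c = 1 := by
    intro c hc
    set t := phi n c with ht
    have htz : t ∈ zc S := hn.phi_mem (hD.le hc.1)
    have htD : t ∈ D := hD.zc_le' htz
    have hxc : c * x = x * c := mem_centralizer_singleton_iff.1 hc.2
    have hδt : δ * t = t * δ := zc_comm htz (hD.le hδ)
    have e1 : (x⁻¹ * δ) * (t * c) = (t * c) * (x⁻¹ * δ) := by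
      rw [← hnx, ht, phi_mul_self]
      calc n * x * n⁻¹ * (n * c * n⁻¹) = n * (x * c) * n⁻¹ := by group
        _ = n * (c * x) * n⁻¹ := by rw [hxc]
        _ = n * c * n⁻¹ * (n * x * n⁻¹) := by group
    have e2 : δ * c * δ⁻¹ * c⁻¹ = t⁻¹ * (x * t * x⁻¹) := by
      have hcx : c * x⁻¹ = x⁻¹ * c := ((show Commute c x from hxc).inv_right).eq
      calc δ * c * δ⁻¹ * c⁻¹ = t⁻¹ * (x * ((x⁻¹ * δ) * (t * c))) * δ⁻¹ * c⁻¹ := by
            rw [← mul_assoc x (x⁻¹ * δ), mul_inv_cancel_left, ← mul_assoc δ t c, hδt]; group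
        _ = t⁻¹ * (x * (t * (c * x⁻¹) * δ)) * δ⁻¹ * c⁻¹ := by rw [e1]; group
        _ = t⁻¹ * (x * t * x⁻¹) := by rw [hcx]; group
    have h3 : κ ⟨t, htD⟩ = 1 := by
      refine hEC _ ⟨_, rfl⟩ ?_
      show t⁻¹ * (x * t * x⁻¹) ∈ C
      rw [← e2]
      exact hcomm δ hδ c hc.1
    exact hCZ t ((hκ t htD).1 h3) htz
  have hxEc : ∀ e ∈ E, x * e * x⁻¹ ∈ E := by
    rintro _ ⟨d, rfl⟩
    refine ⟨⟨x * d * x⁻¹, hD.conj_mem hxL d.2⟩, ?_⟩
    show (x * d * x⁻¹)⁻¹ * (x * (x * d * x⁻¹) * x⁻¹) = x * ((d : G)⁻¹ * (x * d * x⁻¹)) * x⁻¹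
    group
  have hEx : ∀ e ∈ E, x⁻¹ * e * x ∈ E := by
    rintro _ ⟨d, rfl⟩
    refine ⟨⟨x⁻¹ * d * x, hD.conj_mem' hxL d.2⟩, ?_⟩
    show (x⁻¹ * d * x)⁻¹ * (x * (x⁻¹ * d * x) * x⁻¹) = x⁻¹ * ((d : G)⁻¹ * (x * d * x⁻¹)) * x
    group
  have hEeq : ∀ e ∈ E, ∃ e1 ∈ E, e = e1⁻¹ * (x * e1 * x⁻¹) := by
    rintro _ ⟨⟨d, hd⟩, rfl⟩
    obtain ⟨c, hc, e1, he1, rfl⟩ := hdec d hd
    refine ⟨e1, he1, ?_⟩
    rw [show (⟨c * e1, hd⟩ : D) = ⟨c, hc.1⟩ * ⟨e1, hED he1⟩ from rfl, map_mul,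
      (hκ c hc.1).2 hc, one_mul]
    rfl
  have hTE : T ≤ E := by
    rintro _ ⟨⟨d, hd⟩, rfl⟩
    obtain ⟨c, hc, e, he, rfl⟩ := hdec d hd
    show phi n (c * e) ∈ E
    rw [hn.phi_mul (hD.le hc.1) (hD.le (hED he)), hCn c hc, one_mul]
    obtain ⟨e1, he1, hee⟩ := hEeq e he
    set e1' := n * e1 * n⁻¹ with he1'
    have he1W : e1' ∈ W := by
      rw [he1', ← phi_mul_self]
      exact mul_mem (mem_sup_left (hTmem e1 (hED he1))) (hEW he1)
    have hcδ : e1' * δ⁻¹ = δ⁻¹ * e1' := (hWc e1' he1W _ (inv_mem hδ)).symm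
    have h1 : n * e * n⁻¹ = x⁻¹ * (κ ⟨e1', hWD he1W⟩)⁻¹ * x := by
      show n * e * n⁻¹ = x⁻¹ * (e1'⁻¹ * (x * e1' * x⁻¹))⁻¹ * x
      calc n * e * n⁻¹ = e1'⁻¹ * ((n * x * n⁻¹) * e1' * (n * x * n⁻¹)⁻¹) := by
            rw [hee, he1']; group
        _ = e1'⁻¹ * x⁻¹ * (δ * (e1' * δ⁻¹)) * x := by rw [hnx]; group
        _ = e1'⁻¹ * x⁻¹ * e1' * x := by rw [hcδ]; group
        _ = _ := by group
    rw [phi, h1]
    exact mul_mem (hEx _ (inv_mem ⟨_, rfl⟩)) (inv_mem he)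
  have hrange : ∀ t ∈ T, ∃ e ∈ E, phi n e = t := by
    rintro _ ⟨⟨d, hd⟩, rfl⟩
    obtain ⟨c, hc, e, he, rfl⟩ := hdec d hd
    refine ⟨e, he, ?_⟩
    show phi n e = phi n (c * e)
    rw [hn.phi_mul (hD.le hc.1) (hD.le (hED he)), hCn c hc, one_mul]
  let ψ : E →* G := Φ.comp (inclusion hED)
  have hψr : ψ.range = T := by
    refine le_antisymm ?_ fun t ht => ?_
    · rintro _ ⟨e, rfl⟩
      exact ⟨inclusion hED e, rfl⟩
    · obtain ⟨e, he, het⟩ := hrange t ht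
      exact ⟨⟨e, he⟩, het⟩
  have hTker : T.subgroupOf E ≤ ψ.ker := fun e he => hn.phi_eq_one_of_zc (hTZ he)
  have hcT : Nat.card (T.subgroupOf E) = Nat.card T :=
    Nat.card_congr (subgroupOfEquivOfLe hTE).toEquiv
  have hmul : Nat.card ψ.ker * Nat.card T = Nat.card E := by
    rw [← hψr, ← index_ker, card_mul_index]
  have hT' : Nat.card T' = Nat.card T := card_map_of_injective (MulAut.conj g).injective
  have hE1 : Nat.card E ≤ Nat.card W := card_le_of_le hEW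
  have hW1 : Nat.card W ≤ Nat.card T * Nat.card T := by
    refine (card_sup_le fun a ha b hb => ?_).trans_eq (by rw [hT'])
    exact hWc b (mem_sup_right hb) a (hD.zc_le' (hTZ ha))
  have hkT : Nat.card T ≤ Nat.card ψ.ker := hcT ▸ card_le_of_le hTker
  have hkeq : Nat.card ψ.ker = Nat.card T :=
    le_antisymm (Nat.le_of_mul_le_mul_right (hmul.trans_le (hE1.trans hW1)) Nat.card_pos) hkT
  have hker : ∀ e ∈ E, phi n e = 1 → e ∈ T := fun e he hp => by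
    have h1 := eq_of_le_of_card_ge hTker (by rw [hkeq, hcT])
    have h2 : (⟨e, he⟩ : E) ∈ ψ.ker := hp
    rw [← h1] at h2
    exact h2
  have hZT : zc S ≤ T := by
    intro z hz
    obtain ⟨c, hc, e, he, hce⟩ := hdec z (hD.zc_le' hz)
    have heT : e ∈ T := by
      refine hker e he ?_
      have := hn.phi_eq_one_of_zc hz
      rwa [hce, hn.phi_mul (hD.le hc.1) (hD.le (hED he)), hCn c hc, one_mul] at this
    have hc1 : c = 1 := hCZ c hc (by
      have : c = z * e⁻¹ := by rw [hce]; group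
      rw [this]
      exact mul_mem hz (inv_mem (hTZ heT)))
    rwa [hce, hc1, one_mul]
  have hTeq : T = zc S := le_antisymm hTZ hZT
  refine ⟨C, E, inf_le_left, hED, fun e he => (hWV (hEW he)).1, fun e he => (hWV (hEW he)).2,
    fun c hc => (mem_centralizer_singleton_iff.1 hc.2).symm, hdec, hEC, hcomm, hCn, hCZ,
    fun e he hp => hTZ (hker e he hp), hZT.trans hTE, fun z hz => hrange z (hZT hz), ?_, hxEc,
    fun e he hfix => hEC e he ⟨hED he, mem_centralizer_singleton_iff.2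
      (mul_inv_eq_iff_eq_mul.1 hfix).symm⟩, hEeq⟩
  rw [← hTeq, ← hmul, hkeq]

end Cfsg.Agent.SylowMaxTwo
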