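import Mathlib

/-!
# Chains of subgroups
-/

set_option autoImplicit false

namespace Cfsg.Agent.SylowMaxTwo

variable {G : Type*} [Group G]

/-- A chain of `k + 1` subgroups with top term `H`. -/
def Tower (H : Subgroup G) (k : ℕ) : Prop :=
  ∃ f : Fin (k + 1) → Subgroup G, StrictMono f ∧ f (Fin.last k) = H

theorem Tower.zero (H : Subgroup G) : Tower H 0 :=
  ⟨fun _ => H, fun a b h => absurd h (by simp [Fin.lt_def]), rfl⟩

theorem Tower.step {H K : Subgroup G} {k : ℕ} (h : Tower H k) (hlt : H < K) : Tower K (k + 1) := by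
  obtain ⟨f, hf, hl⟩ := h
  refine ⟨Fin.snoc f K, ?_, by simp⟩
  rw [Fin.strictMono_iff_lt_succ]
  intro i
  induction i using Fin.lastCases with
  | last => simpa [hl] using hlt
  | cast j =>
    simp only [Fin.succ_castSucc, Fin.snoc_castSucc]
    exact hf Fin.castSucc_lt_succ

theorem tower_of_card {p : ℕ} [Fact p.Prime] [Finite G] (d : ℕ) :
    ∀ P : Subgroup G, Nat.card P = p ^ d → Tower P d := by
  induction d with
  | zero => exact fun P _ => Tower.zero P
  | succ d ih =>
    intro P hP
    obtain ⟨K, hK⟩ := Sylow.exists_subgroup_card_pow_prime (G := P) p (n := d)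
      (by rw [hP]; exact pow_dvd_pow p d.le_succ)
    have hc : Nat.card (K.map P.subtype) = p ^ d := by rw [Subgroup.card_subtype, hK]
    refine (ih _ hc).step (lt_of_le_of_ne (Subgroup.map_subtype_le K) fun e => ?_)
    rw [e, hP] at hc
    exact absurd (Nat.pow_right_injective (Fact.out : p.Prime).two_le hc) (by omega)

theorem Tower.le_of_short {H : Subgroup G} {k m : ℕ}
    (hm : ∀ c : Fin (m + 2) → Subgroup G, ¬ StrictAnti c) (h : Tower H k) : k ≤ m := by
  by_contra hlt
  obtain ⟨f, hf, -⟩ := h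
  refine hm (fun i => f (Fin.castLE (by omega) i.rev)) fun a b hab => hf ?_
  exact (Fin.strictMono_castLE (by omega)) (Fin.rev_lt_rev.2 hab)

end Cfsg.Agent.SylowMaxTwo
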